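import Cfsg.Agent.Lib.Spor.SchurCert.ActBridge
import Cfsg.Agent.Lib.Spor.Held.ActH.Data
import Cfsg.Agent.Lib.Spor.HeldOut.ChainZ

/-!
The certificate at the prime 17: a polycyclic sequence of a Sylow subgroup and conjugations killing the tails.
-/

set_option autoImplicit false
set_option maxRecDepth 100000
set_option maxHeartbeats 0

namespace CfsgLib.Spor.HeldMult.P17

open CfsgLib.Spor.TC CfsgLib.Spor.ActCert CfsgLib.Spor.SchurCert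

/-- The Sylow elements. -/
def sw : List (List ℕ) := [
    [4, 1, 3, 0, 2, 3, 2, 5, 0, 2, 4, 0, 1, 2, 1, 3, 1, 4, 6, 5, 6, 1, 6, 2, 3, 1, 6, 4, 3, 2, 3, 6, 4, 3, 1, 2, 3, 6, 2, 1]]

/-- The conjugating elements. -/
def gw : List (List ℕ) := [
    [5, 1, 3, 6, 1, 3, 1, 2, 3, 2, 1, 4, 2, 0, 2, 5, 3, 6, 5, 1, 2, 5, 0, 4, 3, 0, 1, 2, 3, 6, 5, 3, 1, 2, 3, 5, 3]]

/-- The certificate. -/
def cert : SchurCert.Cert where
  p := 17
  m := 1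
  N := 17
  rules := [
    ([0, 0, 0, 0, 0, 0, 0, 0, 0, 0, 0, 0, 0, 0, 0, 0, 0], [])]
  maps := [
    [([0], [0, 0])]]
  overlaps := []
  fuses := [
    ⟨0, [0, 0, 0, 0, 0, 0, 0, 0, 0, 0, 0, 0, 0, 0, 0, 0, 0], [], [(0, 0)], [], [(0, 0), (0, 0)], []⟩]
  adj := [
    []]
  base := []
  dense := [
    [16]]
  tgt := [
    ([], [(0, 16)])]

/-- Orbits inside the subgroup. -/
def orbits : List (ℕ × List (ℕ × List ℕ)) := [
    (2, [(2, []), (287, [0, 0, 0]), (421, [0, 0, 0, 0, 0, 0, 0, 0, 0, 0, 0, 0, 0, 0]), (480, [0, 0, 0, 0, 0, 0, 0, 0]), (622, [0, 0, 0, 0, 0, 0, 0, 0, 0, 0]), (827, [0, 0, 0, 0, 0, 0, 0, 0, 0, 0, 0]), (959, [0, 0, 0, 0, 0]), (1000, [0, 0, 0, 0, 0, 0]), (1065, [0, 0, 0, 0, 0, 0, 0, 0, 0, 0, 0, 0, 0, 0, 0, 0]), (1138, [0, 0, 0, 0, 0, 0, 0, 0, 0]), (1208, [0, 0, 0, 0, 0, 0, 0, 0, 0, 0, 0, 0, 0]), (1319, [0, 0, 0, 0, 0, 0, 0, 0, 0, 0, 0, 0, 0, 0, 0]), (1465,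 [0, 0]), (1709, [0]), (1775, [0, 0, 0, 0, 0, 0, 0, 0, 0, 0, 0, 0]), (1789, [0, 0, 0, 0, 0, 0, 0]), (1941, [0, 0, 0, 0])])]

theorem ident_ok : identOK CfsgLib.Spor.Held.ActH.act cert sw gw CfsgLib.Spor.HeldOut.levZ = true := by decide +kernel

theorem sub_ok : subChainOK CfsgLib.Spor.Held.ActH.act sw [] orbits = true := by decide +kernel

theorem shape_ok : cert.shapeOK = true := by decide +kernel

theorem lin_ok : cert.linOK = true := by decide +kernel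

theorem prod_ok : cert.p ^ cert.m ≤ (orbits.map fun e => e.2.length).prod := by decide +kernel

end CfsgLib.Spor.HeldMult.P17
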