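import Cfsg.Agent.Lib.Spor.SchurCert.ActBridge
import Cfsg.Agent.Lib.Spor.Held.ActH.Data
import Cfsg.Agent.Lib.Spor.HeldOut.ChainZ

/-!
The certificate at the prime 3: a polycyclic sequence of a Sylow subgroup and conjugations killing the tails.
-/

set_option autoImplicit false
set_option maxRecDepth 100000
set_option maxHeartbeats 0

namespace CfsgLib.Spor.HeldMult.P3

open CfsgLib.Spor.TC CfsgLib.Spor.ActCert CfsgLib.Spor.SchurCert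

/-- The Sylow elements. -/
def sw : List (List ℕ) := [
    [2, 0, 1, 4, 2, 3, 4, 2, 6, 0, 5, 3, 6, 4, 1, 2, 3, 2, 6, 4, 6, 3, 2, 3, 6, 3, 5, 3, 1, 2, 3, 6, 1, 2, 3, 1],
    [5, 3, 0, 6, 0, 2, 0, 1, 3, 2, 5, 6, 3, 0, 2, 5, 6, 1, 5, 1, 5, 2, 3, 0, 1, 2, 3, 5, 3, 1, 2, 3, 6, 1],
    [0, 3, 1, 0, 4, 3, 6, 3, 5, 2, 6, 5, 4, 5, 3, 0, 6, 2, 1, 3, 4, 0, 4, 2, 0, 3, 2, 6, 0, 1, 2, 3, 2, 3, 1, 2, 3, 5, 3, 6, 2]]

/-- The conjugating elements. -/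
def gw : List (List ℕ) := [
    [6, 2, 6, 2, 5, 3, 5, 0, 2, 5, 3, 1, 0, 6, 4, 2, 3, 2, 6, 4, 2, 3, 2, 3, 1, 2, 3, 5, 4, 2, 3, 2, 3, 6, 4],
    [0, 2, 3, 2, 6, 4, 6, 3, 1, 0, 2, 5, 3, 6, 1, 5, 4, 6, 4, 2, 5, 6, 3, 4, 3, 2, 3, 6, 5, 0, 1, 2, 3, 2],
    [3, 4, 3, 2, 1, 0, 6, 1, 4, 3, 5, 1, 2, 3, 5, 0, 4, 2, 1, 2, 3, 5, 4, 3, 2, 3, 2, 3, 6, 1, 2, 3, 4, 0]]

/-- The certificate. -/
def cert : SchurCert.Cert where
  p := 3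
  m := 3
  N := 3
  rules := [
    ([0, 0, 0], []),
    ([1, 1, 1], []),
    ([2, 2, 2], []),
    ([1, 0], [0, 1, 2]),
    ([2, 0], [0, 2]),
    ([2, 1], [1, 2])]
  maps := [
    [([0, 1, 1], [1, 1]), ([2], [2, 2])],
    [([0, 1, 2, 2], [0, 0, 1, 1, 2, 2])],
    [([1], [1]), ([2], [1, 2])]]
  overlaps := [
    ([1, 1, 1, 0], [(1, 0)], [(3, 2), (3, 1), (3, 0), (5, 2), (5, 4), (5, 3), (1, 1), (2, 1)])]
  fuses := [
    ⟨0, [0, 0, 0], [], [(3, 2), (3, 1), (5, 3), (5, 5), (5, 4), (1, 2), (5, 3), (5, 2), (4, 4), (4, 3), (3, 2), (0, 0), (2, 1), (1, 0)], [], [(1, 0), (1, 0)], []⟩,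
    ⟨0, [1, 0], [0, 1], [(4, 0), (5, 1), (5, 2)], [], [(5, 1), (5, 0), (5, 2), (5, 1)], []⟩,
    ⟨1, [0, 0, 0], [], [(4, 3), (4, 2), (3, 1), (2, 3), (4, 5), (4, 4), (3, 3), (3, 2), (0, 0), (5, 1), (2, 2), (5, 2), (1, 0), (2, 0)], [], [(4, 5), (4, 4), (3, 3), (3, 2), (0, 0), (5, 1), (2, 2), (4, 2), (3, 1), (3, 0), (5, 2), (2, 3), (1, 1), (4, 3), (4, 2), (3, 1), (2, 3), (3, 2), (0, 0), (5, 1), (5, 2), (1, 0), (2, 0)], []⟩,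
    ⟨2, [1, 1, 1], [], [(2, 0)], [], [(5, 1), (5, 3), (5, 2), (1, 0), (2, 0)], []⟩]
  adj := [
    [],
    [],
    [(3, 1)]]
  base := []
  dense := [
    [0, 0, 2],
    [1, 0, 1, 0, 2, 2],
    [0, 0, 0, 0, 1, 1],
    [2, 2, 2, 0, 2, 1],
    [0, 2]]
  tgt := [
    ([], [(0, 1), (1, 1), (2, 1)]),
    ([], [(4, 2)]),
    ([], [(0, 2)]),
    ([], []),
    ([], [(1, 1), (3, 1), (4, 2)]),
    ([], [(1, 2), (2, 1), (3, 2), (4, 1)])]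

/-- Orbits inside the subgroup. -/
def orbits : List (ℕ × List (ℕ × List ℕ)) := [
    (2, [(2, []), (7, [0, 1, 2]), (169, [0, 2]), (267, [0, 0]), (431, [0, 0, 1, 2, 2]), (440, [0, 0, 1, 1, 2]), (588, [1, 2, 2]), (667, [0, 0, 1, 1, 2, 2]), (670, [1, 1, 2, 2]), (708, [1, 1]), (774, [2, 2]), (852, [0, 0, 1]), (854, [0, 2, 2]), (1020, [1, 1, 2]), (1155, [0, 1, 1]), (1500, [0]), (1609, [0, 1, 2, 2]), (1612, [1, 2]), (1646, [0, 0, 1, 1]), (1711, [0, 1]), (1877, [1]), (1956, [0, 0, 2]), (1965, [0, 0, 1, 2]), (1997, [0, 1, 1, 2, 2]), (2009, [2]), (2031, [0, 1, 1, 2]), (2042, [0, 0, 2, 2])])]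

theorem ident_ok : identOK CfsgLib.Spor.Held.ActH.act cert sw gw CfsgLib.Spor.HeldOut.levZ = true := by decide +kernel

theorem sub_ok : subChainOK CfsgLib.Spor.Held.ActH.act sw [] orbits = true := by decide +kernel

theorem shape_ok : cert.shapeOK = true := by decide +kernel

theorem lin_ok : cert.linOK = true := by decide +kernel

theorem prod_ok : cert.p ^ cert.m ≤ (orbits.map fun e => e.2.length).prod := by decide +kernel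

end CfsgLib.Spor.HeldMult.P3
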