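import Cfsg.Agent.Lib.Spor.SchurCert.ActBridge
import Cfsg.Agent.Lib.Spor.Held.ActH.Data
import Cfsg.Agent.Lib.Spor.HeldOut.ChainZ

/-!
The certificate at the prime 5: a polycyclic sequence of a Sylow subgroup and conjugations killing the tails.
-/

set_option autoImplicit false
set_option maxRecDepth 100000
set_option maxHeartbeats 0

namespace CfsgLib.Spor.HeldMult.P5

open CfsgLib.Spor.TC CfsgLib.Spor.ActCert CfsgLib.Spor.SchurCert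

/-- The Sylow elements. -/
def sw : List (List ℕ) := [
    [5, 4, 3, 5, 3, 2, 1, 3, 2, 4, 2, 3, 0, 2, 3, 6, 3, 2, 3, 0, 1, 2, 3, 5, 4, 2, 3],
    [3, 2, 4, 6, 3, 1, 0, 2, 3, 4, 2, 5, 3, 1, 6, 4, 2, 0, 1, 0, 4, 2, 4, 5, 5, 3, 2, 3, 5, 2, 3, 2, 3, 6, 1, 0]]

/-- The conjugating elements. -/
def gw : List (List ℕ) := [
    [3, 5, 0, 6, 1, 0, 1, 3, 2, 4, 0, 6, 4, 1, 0, 4, 6, 2, 3, 0, 5, 6, 2, 6, 3, 5, 2, 3, 2, 3, 1, 2, 3, 5, 2, 3, 6, 4, 2, 3],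
    [2, 1, 0, 3, 6, 2, 3, 2, 1, 3, 5, 4, 6, 2, 4, 6, 4, 5, 3, 6, 2, 0, 3, 2, 3, 0, 1, 2, 3, 5, 3, 6, 3, 2, 0, 1]]

/-- The certificate. -/
def cert : SchurCert.Cert where
  p := 5
  m := 2
  N := 5
  rules := [
    ([0, 0, 0, 0, 0], []),
    ([1, 1, 1, 1, 1], []),
    ([1, 0], [0, 1])]
  maps := [
    [([0], [1, 1, 1, 1]), ([1], [0, 0, 0, 0])],
    [([0, 1, 1, 1, 1], [0, 0, 1, 1, 1])]]
  overlaps := []
  fuses := [
    ⟨0, [0, 0, 0, 0, 0], [], [(0, 0)], [], [(1, 0), (1, 0), (1, 0), (1, 0)], []⟩,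
    ⟨0, [1, 0], [0, 1], [(2, 0)], [], [], [(2, 3), (2, 2), (2, 1), (2, 0), (2, 4), (2, 3), (2, 2), (2, 1), (2, 5), (2, 4), (2, 3), (2, 2), (2, 6), (2, 5), (2, 4), (2, 3)]⟩,
    ⟨1, [0, 0, 0, 0, 0], [], [(2, 4), (2, 3), (2, 2), (2, 1), (1, 2), (2, 4), (2, 3), (2, 2), (1, 3), (2, 4), (2, 3), (1, 4), (2, 4), (0, 0), (1, 0)], [], [(2, 4), (2, 3), (2, 2), (2, 5), (2, 4), (2, 3), (1, 4), (2, 4), (0, 0), (2, 0), (2, 4), (2, 3), (2, 2), (2, 1), (2, 5), (2, 4), (2, 3), (2, 2), (1, 3), (2, 4), (2, 3), (2, 5), (2, 4), (0, 0), (1, 0)], []⟩]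
  adj := [
    [],
    []]
  base := []
  dense := [
    [1, 1],
    [0, 0, 2],
    [4, 1]]
  tgt := [
    ([], [(0, 3), (2, 2)]),
    ([], [(0, 3), (2, 3)]),
    ([], [(1, 3)])]

/-- Orbits inside the subgroup. -/
def orbits : List (ℕ × List (ℕ × List ℕ)) := [
    (2, [(2, []), (31, [0, 1]), (107, [0, 1, 1, 1]), (153, [0, 1, 1, 1, 1]), (199, [0, 0, 1, 1]), (292, [0, 0, 1]), (331, [0, 0, 1, 1, 1]), (355, [1, 1, 1]), (550, [0, 0, 0]), (719, [0, 0]), (796, [0, 0, 0, 0, 1, 1, 1]), (1084, [0, 0, 1, 1, 1, 1]), (1087, [0, 0, 0, 1, 1, 1, 1]), (1091, [0, 1, 1]), (1148, [1]), (1171, [0, 0, 0, 1]), (1213, [0, 0, 0, 1, 1, 1]), (1311, [0]), (1348, [0, 0, 0, 0, 1]), (1355, [1, 1]), (1579, [0, 0, 0, 0, 1, 1]), (1626, [1, 1, 1, 1]), (1630, [0, 0, 0, 1, 1]), (1671, [0, 0, 0, 0]), (1676, [0, 0, 0, 0, 1, 1, 1, 1])])]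

theorem ident_ok : identOK CfsgLib.Spor.Held.ActH.act cert sw gw CfsgLib.Spor.HeldOut.levZ = true := by decide +kernel

theorem sub_ok : subChainOK CfsgLib.Spor.Held.ActH.act sw [] orbits = true := by decide +kernel

theorem shape_ok : cert.shapeOK = true := by decide +kernel

theorem lin_ok : cert.linOK = true := by decide +kernel

theorem prod_ok : cert.p ^ cert.m ≤ (orbits.map fun e => e.2.length).prod := by decide +kernel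

end CfsgLib.Spor.HeldMult.P5
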