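import Cfsg.Agent.Lib.Spor.SchurCert.ActBridge
import Cfsg.Agent.Lib.Spor.Held.ActH.Data
import Cfsg.Agent.Lib.Spor.HeldOut.ChainZ

/-!
The certificate at the prime 7: a polycyclic sequence of a Sylow subgroup and conjugations killing the tails.
-/

set_option autoImplicit false
set_option maxRecDepth 100000
set_option maxHeartbeats 0

namespace CfsgLib.Spor.HeldMult.P7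

open CfsgLib.Spor.TC CfsgLib.Spor.ActCert CfsgLib.Spor.SchurCert

/-- The Sylow elements. -/
def sw : List (List ℕ) := [
    [4, 6, 3, 2, 3, 6, 3, 0, 5, 0, 5, 2, 1, 3, 4, 2, 3, 2, 5, 2, 2, 3, 5, 2, 3, 1, 2, 3, 5, 2, 3, 6, 5, 1],
    [1, 0, 2, 3, 4, 2, 3, 0, 3, 6, 0, 3, 1, 4, 2, 3, 2, 3, 4, 2, 6, 2, 0, 6, 4, 6, 3, 4, 3, 1, 2, 3, 5, 2, 3, 6, 0, 1, 2],
    [1, 3, 2, 1, 4, 6, 0, 3, 1, 2, 3, 2, 1, 2, 5, 3, 0, 4, 3, 6, 2, 4, 5, 3, 4, 5, 4, 3, 6, 1, 2, 3, 5, 4, 3, 1, 2, 3, 6, 4]]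

/-- The conjugating elements. -/
def gw : List (List ℕ) := [
    [4, 3, 6, 0, 2, 5, 0, 2, 5, 2, 3, 6, 0, 2, 0, 3, 4, 0, 1, 6, 5, 0, 2, 3, 4, 6, 2, 3, 1, 2, 3, 5, 6, 3, 4, 1, 2, 3, 0],
    [0, 5, 2, 1, 0, 1, 6, 4, 1, 6, 2, 6, 3, 1, 2, 1, 3, 2, 1, 6, 3, 6, 3, 3, 2, 3, 5, 4, 1, 2, 3, 2, 3, 6, 4, 1]]

/-- The certificate. -/
def cert : SchurCert.Cert where
  p := 7
  m := 3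
  N := 7
  rules := [
    ([0, 0, 0, 0, 0, 0, 0], []),
    ([1, 1, 1, 1, 1, 1, 1], []),
    ([2, 2, 2, 2, 2, 2, 2], []),
    ([1, 0], [0, 1, 2, 2, 2, 2, 2, 2]),
    ([2, 0], [0, 2]),
    ([2, 1], [1, 2])]
  maps := [
    [([0], [0, 0, 2, 2, 2, 2, 2]), ([1], [0, 0, 0, 0, 1, 2, 2, 2, 2]), ([2], [2, 2])],
    [([0, 1, 1, 1, 1, 1, 2], [0, 0, 1, 1, 1, 2, 2, 2, 2])]]
  overlaps := [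
    ([1, 1, 1, 1, 1, 1, 1, 0], [(1, 0)], [(3, 6), (3, 5), (3, 4), (3, 3), (3, 2), (3, 1), (3, 0), (5, 7), (5, 6), (5, 5), (5, 4), (5, 3), (5, 2), (2, 3), (5, 7), (5, 6), (5, 5), (5, 4), (5, 3), (2, 4), (5, 7), (5, 6), (5, 5), (5, 4), (2, 5), (5, 7), (5, 6), (5, 5), (2, 6), (5, 7), (5, 6), (2, 7), (5, 7), (1, 1), (2, 1)])]
  fuses := [
    ⟨0, [0, 0, 0, 0, 0, 0, 0], [], [(0, 0)], [], [(4, 6), (4, 5), (4, 4), (4, 3), (4, 2), (4, 7), (4, 6), (4, 5), (4, 4), (4, 3), (2, 4), (4, 6), (4, 5), (4, 4), (4, 7), (4, 6), (4, 5), (2, 6), (4, 6), (0, 0), (4, 0), (4, 6), (4, 5), (4, 4), (4, 3), (4, 2), (4, 1), (4, 7), (4, 6), (4, 5), (4, 4), (4, 3), (4, 2), (2, 3), (4, 6), (4, 5), (4, 4), (4, 3), (4, 7), (4, 6), (4, 5), (4, 4), (2, 5), (4, 6), (4,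 5), (4, 7), (4, 6), (0, 0), (2, 0)], []⟩,
    ⟨0, [2, 0], [0, 2], [(4, 0)], [], [(4, 1), (4, 0), (4, 2), (4, 1), (2, 2)], [(2, 2)]⟩,
    ⟨0, [2, 1], [1, 2], [(5, 0)], [], [(4, 1), (4, 0), (4, 2), (4, 1), (4, 3), (4, 2), (4, 4), (4, 3), (5, 5), (5, 4)], []⟩,
    ⟨1, [0, 0, 0, 0, 0, 0, 0], [], [(4, 6), (3, 5), (3, 4), (3, 3), (3, 2), (3, 1), (5, 8), (5, 7), (5, 6), (5, 5), (5, 4), (5, 3), (2, 4), (5, 8), (5, 7), (5, 6), (5, 5), (5, 4), (2, 5), (5, 8), (5, 7), (5, 6), (5, 5), (2, 6), (5, 8), (5, 7), (5, 6), (2, 7), (5, 9), (5, 8), (5, 7), (5, 10), (5, 9), (5, 8), (1, 2), (5, 4), (5, 3), (5, 2), (5, 5), (5, 4), (5, 3), (5, 6), (5, 5), (5, 4), (4, 8), (4, 7), (4, 6), (4, 5), (3, 4), (3, 3), (3, 2), (5, 9), (5, 8), (5, 7), (5, 6), (5, 5),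 (5, 4), (2, 5), (5, 9), (5, 8), (5, 7), (5, 6), (5, 5), (2, 6), (2, 6), (5, 6), (5, 7), (5, 8), (5, 9), (1, 3), (5, 3), (4, 5), (4, 4), (3, 3), (2, 5), (5, 5), (5, 6), (5, 7), (5, 8), (5, 9), (4, 11), (4, 10), (3, 9), (3, 8), (3, 7), (3, 6), (3, 5), (3, 4), (5, 11), (5, 10), (5, 9), (5, 8), (5, 7), (5, 6), (2, 7), (5, 11), (5, 10), (5, 9), (5, 8), (5, 7), (2, 8), (5, 11), (5, 10), (5, 9), (5, 8), (2, 9), (5, 11), (5, 10), (5, 9), (2, 10), (5, 11), (5, 10), (2, 11), (5, 13), (5, 12), (5, 11), (1, 5), (5, 7), (5, 6), (5, 5), (5, 8), (5, 7), (5, 6), (5, 9), (5, 8), (5, 7), (5, 10), (5, 9), (5, 8), (4, 12), (4, 11), (4, 10), (4, 9), (3, 8), (3, 7), (3, 6), (3, 5), (5, 12), (5, 11), (5, 10), (5, 9), (5, 8), (5, 7), (2, 8), (5, 12), (5,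 11), (5, 10), (5, 9), (5, 8), (2, 9), (5, 12), (5, 11), (5, 10), (5, 9), (2, 10), (2, 10), (1, 6), (4, 8), (3, 7), (3, 6), (0, 0), (5, 6), (5, 5), (5, 4), (5, 3), (5, 2), (5, 1), (2, 2), (5, 7), (5, 6), (5, 5), (5, 4), (5, 3), (5, 2), (5, 8), (5, 7), (5, 6), (5, 5), (5, 4), (5, 3), (5, 9), (5, 8), (5, 7), (5, 6), (5, 5), (5, 4), (5, 10), (5, 9), (5, 8), (5, 7), (5, 6), (5, 5), (5, 11), (5, 10), (5, 9), (5, 8), (5, 7), (5, 6), (1, 0), (2, 0)], [], [(4, 8), (4, 7), (4, 6), (4, 5), (3, 4), (3, 3), (3, 2), (5, 9), (5, 8), (5, 7), (5, 6), (5, 5), (5, 4), (2, 5), (5, 9), (5, 8), (5, 7), (5, 6), (5, 5), (2, 6), (2, 6), (4, 6), (3, 5), (3, 4), (3, 3), (5, 10), (5, 9), (5, 8), (5, 7), (5, 6), (5, 5), (2, 6), (5, 10), (5, 9), (5, 8), (5, 7),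 (5, 6), (2, 7), (5, 11), (5, 10), (5, 9), (5, 8), (5, 7), (5, 12), (5, 11), (5, 10), (5, 9), (5, 8), (5, 13), (5, 12), (5, 11), (5, 10), (5, 9), (2, 10), (4, 11), (4, 10), (3, 9), (3, 8), (3, 7), (3, 6), (3, 5), (3, 4), (5, 11), (5, 10), (5, 9), (5, 8), (5, 7), (5, 6), (2, 7), (5, 11), (5, 10), (5, 9), (5, 8), (5, 7), (2, 8), (5, 11), (5, 10), (5, 9), (5, 8), (2, 9), (5, 11), (5, 10), (5, 9), (2, 10), (5, 11), (5, 10), (2, 11), (4, 13), (4, 12), (4, 11), (3, 10), (3, 9), (3, 8), (3, 7), (3, 6), (3, 5), (5, 12), (5, 11), (5, 10), (5, 9), (5, 8), (5, 7), (2, 8), (5, 12), (5, 11), (5, 10), (5, 9), (5, 8), (2, 9), (5, 12), (5, 11), (5, 10), (5, 9), (2, 10), (5, 12), (5, 11), (5, 10), (2, 11), (5, 12), (5, 11), (2, 12), (5, 15), (5, 14),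 (5, 13), (5, 12), (1, 6), (5, 9), (5, 8), (5, 7), (5, 6), (5, 10), (5, 9), (5, 8), (5, 7), (2, 8), (4, 8), (3, 7), (3, 6), (0, 0), (5, 6), (5, 5), (5, 4), (5, 3), (5, 2), (5, 1), (2, 2), (4, 7), (4, 6), (4, 5), (4, 4), (4, 3), (4, 2), (3, 1), (3, 0), (5, 7), (5, 6), (5, 5), (5, 4), (5, 3), (5, 2), (2, 3), (2, 3), (5, 6), (5, 5), (5, 4), (5, 3), (5, 7), (5, 6), (5, 5), (5, 4), (5, 8), (5, 7), (5, 6), (5, 5), (2, 6), (4, 6), (3, 5), (3, 4), (3, 3), (3, 2), (3, 1), (5, 8), (5, 7), (5, 6), (5, 5), (5, 4), (5, 3), (2, 4), (5, 8), (5, 7), (5, 6), (5, 5), (5, 4), (2, 5), (5, 8), (5, 7), (5, 6), (5, 5), (2, 6), (5, 8), (5, 7), (5, 6), (2, 7), (4, 9), (4, 8), (4, 7), (3, 6), (3, 5), (3, 4), (3, 3), (3, 2), (5, 9), (5, 8), (5, 7), (5, 6), (5,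 5), (5, 4), (2, 5), (5, 9), (5, 8), (5, 7), (5, 6), (5, 5), (2, 6), (5, 9), (5, 8), (5, 7), (5, 6), (2, 7), (5, 9), (5, 8), (5, 7), (2, 8), (5, 12), (5, 11), (5, 10), (5, 9), (5, 8), (5, 13), (5, 12), (5, 11), (5, 10), (5, 9), (1, 3), (5, 7), (5, 6), (5, 5), (5, 4), (5, 3), (2, 4), (4, 5), (4, 4), (3, 3), (2, 5), (4, 5), (3, 4), (2, 6), (4, 12), (4, 11), (4, 10), (4, 9), (3, 8), (3, 7), (3, 6), (3, 5), (5, 12), (5, 11), (5, 10), (5, 9), (5, 8), (5, 7), (2, 8), (5, 12), (5, 11), (5, 10), (5, 9), (5, 8), (2, 9), (5, 12), (5, 11), (5, 10), (5, 9), (2, 10), (2, 10), (3, 9), (3, 8), (3, 7), (3, 6), (0, 0), (5, 6), (5, 5), (5, 4), (5, 3), (5, 2), (5, 1), (2, 2), (5, 6), (5, 5), (5, 4), (5, 3), (5, 2), (2, 3), (5, 6), (5, 5), (5, 4), (5,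 3), (2, 4), (5, 6), (5, 5), (5, 4), (5, 7), (5, 6), (5, 5), (5, 8), (5, 7), (5, 6), (1, 0), (2, 0)], []⟩]
  adj := [
    [],
    [],
    [(3, 6)]]
  base := []
  dense := [
    [0, 0, 1],
    [6, 0, 2],
    [0, 0, 0, 0, 4],
    [0, 0, 0, 0, 6, 6],
    [6, 2]]
  tgt := [
    ([], [(0, 2), (1, 6)]),
    ([], [(0, 1), (1, 3), (4, 4)]),
    ([], [(0, 1)]),
    ([], []),
    ([], [(2, 2)]),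
    ([], [(2, 5), (3, 6)])]

/-- Orbits inside the subgroup. -/
def orbits : List (ℕ × List (ℕ × List ℕ)) := [
    (2, [(2, []), (8, [0, 0, 0, 1, 2, 2]), (10, [0, 1, 2, 2, 2]), (18, [0, 0, 1, 1, 1, 1, 2, 2, 2, 2, 2, 2]), (26, [0, 1, 1, 1, 1, 1, 2]), (32, [0, 0, 0, 0, 0, 1, 1, 1, 1, 1, 2, 2, 2, 2, 2, 2]), (39, [0, 0, 0, 0, 1, 2, 2, 2, 2]), (58, [0, 0, 0, 0, 0, 1, 1, 1, 1, 1, 1, 2]), (59, [0, 0, 0, 0]), (73, [0, 1, 1, 1, 1, 1]), (74, [0, 0, 0, 0, 0, 0, 1, 1, 1, 1, 2, 2, 2, 2, 2]), (82, [0, 0, 1, 1, 1, 1, 1, 1, 2, 2, 2]), (92, [0, 1, 2]), (96, [0, 1, 1, 1, 1]), (105, [0, 0, 0, 0, 0, 0, 1, 1, 1, 1, 1, 2]), (122, [0, 0, 0, 0, 1, 1, 1, 1, 1, 1, 2, 2]), (129, [0, 0, 0, 2, 2, 2, 2, 2]), (142, [0, 0, 1, 2, 2, 2, 2]), (149, [0, 0, 0, 0, 0,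 0, 1, 1]), (156, [0, 0, 0, 0, 0, 1, 1, 1, 1, 2, 2, 2, 2]), (159, [2, 2]), (173, [0, 0, 0, 0, 0, 0, 1, 1, 1, 1, 2, 2, 2, 2]), (175, [0, 0, 0, 0, 0, 1, 1, 1, 1, 2]), (176, [0, 0, 0, 0, 1, 1, 1, 1, 2, 2, 2]), (177, [0, 0, 0, 0, 1, 1, 1, 2]), (180, [0, 1, 2, 2]), (184, [0, 0, 0, 1, 1, 1, 1, 2, 2, 2, 2, 2]), (191, [0, 0, 0, 0, 0, 1, 1, 2, 2, 2, 2]), (207, [0, 0, 1, 1, 1, 1, 1, 1]), (208, [0, 1, 1, 1, 1, 1, 2, 2, 2]), (215, [0, 0, 0, 0, 1, 1, 2, 2]), (218, [0, 0, 0, 1, 2, 2, 2, 2]), (224, [0, 0, 0, 0, 0, 0, 2]), (226, [0, 1, 1, 1, 1, 2, 2, 2, 2]), (229, [1, 1, 1, 1, 1, 2, 2, 2, 2, 2, 2]), (230, [0, 0, 0, 0, 0, 0, 1, 1, 2, 2, 2, 2, 2, 2]), (240, [0, 0, 0, 0, 0, 0, 1, 1, 1, 1, 1]), (241, [1, 1, 1, 2, 2, 2, 2, 2]), (247, [0, 0, 0, 1, 1, 1,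 1, 2, 2, 2, 2, 2, 2]), (253, [1, 1, 1, 1, 2, 2, 2, 2, 2]), (254, [0, 0, 0, 0, 0, 2, 2, 2, 2, 2, 2]), (259, [0, 0, 2, 2, 2]), (261, [0, 0, 0, 0, 0, 0, 1, 2, 2, 2, 2]), (271, [0, 1, 1, 2]), (273, [0, 0, 0, 0, 0, 0, 2, 2, 2, 2, 2]), (274, [1, 1, 1, 1, 1, 2]), (282, [0, 1, 1, 1, 1, 2, 2, 2]), (293, [0, 0, 0, 0, 1, 1, 1, 1, 1, 1, 2, 2, 2]), (310, [0, 0, 0, 0, 0, 1, 1, 1, 1, 1, 1, 2, 2]), (314, [0, 0, 1, 1, 1, 1, 1, 1, 2, 2, 2, 2, 2]), (321, [0, 0, 0, 0, 0, 0, 1, 1, 1, 1, 2, 2]), (324, [0, 0, 0, 0, 0, 1, 2, 2, 2, 2, 2, 2]), (325, [0, 1, 1, 2, 2, 2, 2, 2, 2]), (326, [0, 0, 1, 1, 1, 1, 1, 1, 2, 2, 2, 2]), (331, [0, 0, 0, 0, 0, 0, 2, 2]), (332, [2, 2, 2, 2, 2]), (340, [1, 1, 1, 2, 2, 2, 2, 2, 2]), (342, [0, 0, 0, 0, 0, 1, 2]), (345, [0, 1,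 1, 1, 1, 2, 2]), (348, [2, 2, 2]), (351, [0, 0, 1, 1, 2, 2]), (356, [0, 0, 0, 0, 0, 0, 1, 1, 1, 2, 2, 2, 2, 2, 2]), (359, [0, 0, 0, 1, 1, 1, 2, 2]), (373, [1, 1, 2, 2, 2]), (374, [0, 2]), (375, [0, 0, 0, 0, 1, 2, 2, 2]), (379, [0, 0, 0, 0, 0, 0, 1, 1, 1]), (381, [1, 1, 2, 2, 2, 2, 2]), (387, [0, 1, 1]), (390, [0, 0, 0, 1, 2, 2, 2]), (391, [0, 0, 0, 0, 1, 1, 2, 2, 2]), (393, [1, 2, 2, 2, 2, 2, 2]), (400, [1, 2, 2, 2, 2, 2]), (404, [1, 1, 1, 1, 1, 2, 2, 2, 2, 2]), (405, [0, 0, 1, 1, 1, 2, 2]), (406, [0, 0, 0, 0, 2, 2]), (416, [0, 0, 1, 1, 1, 2, 2, 2]), (417, [0, 0, 0, 0, 0, 0, 1, 1, 1, 1, 1, 1, 2]), (420, [0, 0, 1, 1, 2, 2, 2, 2, 2]), (434, [0, 0, 0, 1, 1, 1, 2, 2, 2, 2, 2]), (440, [0, 0, 1, 1, 1, 1, 1, 2]), (442, [0, 0, 0, 0, 0]),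 (456, [0, 1, 1, 1, 1, 1, 1, 2, 2, 2]), (457, [0, 0, 0, 1, 1, 1, 1, 1]), (465, [1, 1, 1, 1, 1, 2, 2]), (467, [0, 0, 0, 0, 0, 0, 1, 1, 1, 2, 2, 2]), (472, [0, 2, 2, 2, 2, 2, 2]), (482, [1]), (485, [0, 0, 0, 0, 2, 2, 2]), (491, [2, 2, 2, 2, 2, 2]), (497, [0, 0, 0, 0, 1, 1, 1, 1, 1, 1, 2, 2, 2, 2, 2, 2]), (500, [0, 0, 0, 0, 2, 2, 2, 2]), (501, [0, 0, 0, 0, 0, 0, 1, 1, 1, 1, 1, 1, 2, 2]), (525, [0, 0, 0, 0, 0, 0, 1, 1, 2]), (527, [0, 0, 0, 0, 0, 0, 1, 1, 1, 2, 2, 2, 2]), (542, [0, 0, 0, 1, 1, 1, 1, 1, 2]), (545, [0, 0, 2, 2, 2, 2]), (546, [0, 0, 0, 1, 1, 1, 1, 1, 1, 2]), (549, [0, 0, 1, 1, 1, 1, 1, 2, 2]), (550, [0, 0, 1, 1, 1, 1, 2, 2, 2, 2, 2]), (551, [0, 0, 0, 0, 0, 1, 1, 1, 1, 1, 1, 2, 2, 2, 2, 2]), (552, [0, 0, 0, 0, 0, 1, 2, 2, 2,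 2]), (583, [0, 0, 0, 0, 0, 1, 1, 1, 2, 2]), (589, [0, 0, 0, 0, 1, 1, 1, 1, 1, 2, 2, 2, 2, 2, 2]), (598, [0, 0, 1, 1, 1, 1, 2, 2]), (600, [0, 0, 1, 1, 1, 1, 1]), (603, [0, 0, 0, 0, 0, 1, 1, 1, 1, 1, 2]), (604, [0, 1, 1, 1, 1, 1, 1]), (614, [0, 0, 0, 0, 0, 1, 1, 2, 2, 2, 2, 2, 2]), (636, [0, 0, 0, 0, 0, 0, 1, 1, 1, 1, 2]), (642, [0, 0, 1, 2, 2]), (650, [0, 1, 1, 2, 2, 2]), (655, [0, 0, 0, 0, 1, 1, 1]), (662, [0, 0, 0, 0, 1, 1, 1, 1, 1, 1, 2]), (667, [0, 0, 2, 2]), (671, [0, 0, 0, 1, 1, 1, 1, 2]), (672, [0, 0, 0, 0, 1, 1, 1, 1, 1, 1, 2, 2, 2, 2, 2]), (674, [1, 1, 2, 2]), (677, [1, 1, 1]), (680, [0, 0, 1, 1, 2]), (683, [1, 1, 1, 1, 2, 2, 2]), (722, [0, 0, 0, 0, 0, 0, 1, 1, 1, 1]), (726, [0, 1, 1, 1]), (740, [0, 0, 0, 1, 1, 1, 2]), (742,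 [0, 0, 0, 0, 0, 2, 2, 2, 2, 2]), (746, [1, 1, 1, 2, 2, 2, 2]), (757, [0, 0, 0, 0, 1, 1, 1, 2, 2, 2, 2]), (774, [0, 0, 0, 0, 0, 1, 1, 1, 1, 1, 2, 2]), (775, [0, 1, 1, 1, 1, 1, 1, 2, 2, 2, 2, 2]), (779, [0, 0, 0, 0, 0, 0, 1, 2, 2, 2, 2, 2, 2]), (793, [0, 0, 0, 0, 0, 1, 1, 1, 1, 1, 1]), (798, [2]), (799, [0, 0, 0, 2, 2, 2, 2, 2, 2]), (815, [0, 0, 1, 1]), (818, [0, 0, 0, 0, 0, 1, 1, 1, 1, 1, 1, 2, 2, 2, 2]), (825, [1, 1, 1, 1, 1, 2, 2, 2, 2]), (826, [0, 1, 2, 2, 2, 2, 2, 2]), (831, [0, 2, 2, 2, 2]), (834, [0, 0, 0, 0, 1, 1, 1, 1, 2]), (836, [0, 0, 0, 0, 0, 0, 1, 2, 2, 2]), (842, [1, 1]), (849, [0, 0, 1, 1, 1, 1, 1, 1, 2, 2]), (853, [0, 0, 0, 1, 1, 1, 1, 1, 1, 2, 2, 2, 2, 2, 2]), (859, [0, 0, 0, 0, 0, 2]), (860, [0, 0, 0, 0, 0, 0, 2, 2,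 2]), (861, [0, 0, 0, 1, 1, 1, 1, 1, 2, 2, 2, 2, 2, 2]), (877, [0, 0, 0, 1, 1, 1, 1, 1, 2, 2, 2, 2, 2]), (878, [1, 1, 1, 1, 1, 2, 2, 2]), (882, [1, 1, 1, 1, 1, 1]), (886, [0, 0, 0, 1, 1, 1, 1, 1, 1, 2, 2, 2]), (899, [0, 0, 0, 0, 0, 0]), (901, [0, 0, 0, 0, 0, 0, 1, 1, 1, 1, 1, 2, 2, 2]), (906, [0, 0, 0, 0, 0, 1]), (914, [0, 0, 0, 0, 0, 0, 1, 1, 1, 2, 2]), (919, [0, 1, 1, 1, 1, 1, 2, 2, 2, 2]), (927, [0, 0, 1, 1, 2, 2, 2]), (931, [0, 0, 0, 0, 0, 1, 1, 1, 2, 2, 2, 2, 2, 2]), (939, [0, 0, 0, 1, 1, 2, 2, 2]), (942, [0, 0, 0, 1, 1, 1, 1, 1, 1, 2, 2]), (943, [0, 0, 0, 0, 1, 2, 2, 2, 2, 2]), (946, [0, 0, 0, 1, 1, 1, 2, 2, 2]), (949, [0, 0, 0, 1, 1, 2, 2, 2, 2]), (954, [1, 1, 2, 2, 2, 2]), (957, [0, 0, 1, 1, 1, 1, 2, 2, 2, 2]), (963, [0, 1,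 1, 1, 1, 1, 2, 2, 2, 2, 2, 2]), (967, [0, 0, 1, 1, 1, 1, 1, 1, 2]), (969, [0, 0, 1, 1, 1, 1, 1, 2, 2, 2]), (973, [0, 0, 0, 0, 0, 1, 1, 2, 2]), (984, [0, 0, 0, 0, 1, 2]), (991, [0, 0, 0, 1, 1, 2, 2, 2, 2, 2, 2]), (994, [0, 0, 0, 0, 1, 1, 1, 2, 2]), (999, [0, 0, 0, 0, 2, 2, 2, 2, 2, 2]), (1005, [1, 1, 1, 1, 1]), (1006, [0, 0, 0, 0, 0, 0, 2, 2, 2, 2, 2, 2]), (1012, [0, 0, 0, 0, 0, 2, 2, 2]), (1019, [0, 0, 1, 1, 1, 1]), (1022, [0, 0, 0, 0, 0, 1, 1, 1, 2, 2, 2, 2]), (1023, [0, 0, 0, 0, 1, 1, 1, 1, 1, 2, 2]), (1025, [0, 1, 2, 2, 2, 2]), (1027, [0]), (1030, [0, 0, 0, 0, 0, 0, 1, 1, 1, 2]), (1032, [0, 0, 0, 0, 1, 1, 1, 1, 2, 2, 2, 2, 2]), (1036, [0, 0, 0, 0, 0, 1, 1, 1, 1, 1, 2, 2, 2, 2]), (1043, [0, 0, 0, 0, 0, 0, 1]), (1049, [0, 0, 0, 0,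 1, 1, 1, 1, 1, 1]), (1052, [0, 1, 1, 1, 1, 1, 1, 2, 2]), (1058, [1, 1, 1, 1, 1, 1, 2, 2, 2, 2]), (1066, [0, 1, 2, 2, 2, 2, 2]), (1075, [0, 0, 0, 0, 0, 1, 1, 2]), (1090, [0, 1, 1, 1, 2, 2]), (1092, [0, 0, 0, 0, 1, 1, 1, 1, 1, 2]), (1093, [0, 0, 0, 0, 0, 1, 1, 1, 1]), (1098, [0, 0, 1, 2, 2, 2, 2, 2]), (1100, [0, 0, 0, 0, 0, 0, 1, 1, 1, 1, 2, 2, 2, 2, 2, 2]), (1107, [0, 0, 1, 1, 1, 1, 1, 2, 2, 2, 2]), (1109, [0, 0, 1, 1, 1, 1, 1, 2, 2, 2, 2, 2]), (1110, [1, 2, 2, 2, 2]), (1118, [0, 0, 0, 2, 2, 2]), (1119, [0, 0, 0, 0, 0, 0, 2, 2, 2, 2]), (1126, [0, 0, 0, 0, 0, 1, 1, 1, 1, 1, 2, 2, 2, 2, 2]), (1135, [0, 0, 0, 1, 1, 1, 2, 2, 2, 2]), (1162, [1, 1, 1, 1]), (1163, [0, 1, 1, 2, 2, 2, 2]), (1166, [0, 1, 1, 1, 1, 1, 1, 2]), (1173, [0, 0, 0,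 0, 1, 1, 2, 2, 2, 2]), (1176, [0, 0, 0, 2, 2]), (1183, [0, 1, 1, 1, 2, 2, 2, 2]), (1190, [0, 0, 1, 2, 2, 2]), (1200, [0, 1, 1, 1, 1, 2, 2, 2, 2, 2]), (1204, [0, 0, 0, 1, 1, 1, 1, 2, 2, 2, 2]), (1205, [0, 0, 0, 1, 1, 2, 2]), (1209, [0, 0, 0, 0, 2, 2, 2, 2, 2]), (1214, [0, 0, 0, 0, 0, 1, 1, 1, 1, 2, 2, 2, 2, 2]), (1230, [0, 0, 2, 2, 2, 2, 2, 2]), (1240, [1, 1, 1, 1, 1, 1, 2, 2, 2, 2, 2]), (1245, [0, 2, 2, 2, 2, 2]), (1247, [0, 0, 1, 1, 1, 2, 2, 2, 2]), (1253, [0, 0, 0, 0, 0, 1, 2, 2, 2, 2, 2]), (1276, [0, 0, 0, 0, 0, 0, 1, 1, 1, 1, 1, 1]), (1278, [0, 0, 1, 1, 1, 2, 2, 2, 2, 2]), (1289, [0, 0, 0, 0, 1, 1, 2]), (1310, [0, 0, 2, 2, 2, 2, 2]), (1313, [0, 0, 0, 0, 1, 1, 2, 2, 2, 2, 2]), (1315, [1, 1, 1, 2, 2, 2]), (1324, [1, 1, 1, 2, 2]),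 (1326, [0, 0, 0, 0, 1, 1, 1, 1, 2, 2, 2, 2]), (1331, [0, 1, 1, 1, 2, 2, 2]), (1333, [0, 0, 0, 0, 0, 0, 1, 1, 1, 1, 2, 2, 2]), (1356, [0, 0, 0, 2]), (1364, [0, 0, 0, 0, 1, 1, 1, 1, 1, 2, 2, 2]), (1372, [0, 0, 0, 0, 0, 1, 2, 2, 2]), (1373, [0, 1, 1, 2, 2, 2, 2, 2]), (1377, [0, 0, 0, 1, 1, 1, 1, 1, 2, 2, 2, 2]), (1379, [1, 1, 1, 1, 2, 2]), (1391, [0, 0, 0, 0, 0, 0, 1, 2, 2]), (1405, [0, 0, 0, 1, 1, 1, 1, 1, 2, 2, 2]), (1407, [0, 0, 0, 0, 1, 1, 1, 2, 2, 2, 2, 2, 2]), (1408, [0, 0, 0, 0, 0, 0, 1, 1, 1, 1, 1, 1, 2, 2, 2, 2]), (1415, [0, 0, 0, 0, 1, 1, 1, 1, 2, 2]), (1418, [0, 0, 0, 1, 1, 2]), (1420, [0, 0, 1]), (1434, [0, 0, 1, 1, 1]), (1446, [0, 0, 0, 0, 0, 0, 1, 1, 2, 2]), (1452, [1, 1, 2, 2, 2, 2, 2, 2]), (1459, [0, 0, 0, 0, 0, 1, 1,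 1, 1, 1, 1, 2, 2, 2]), (1467, [0, 2, 2, 2]), (1468, [0, 0, 0, 0, 0, 1, 1, 1]), (1472, [0, 0]), (1479, [0, 0, 0, 1, 1, 1]), (1482, [0, 0, 0, 1, 1, 1, 1, 1, 1]), (1487, [0, 0, 0, 0, 0, 1, 1, 2, 2, 2, 2, 2]), (1489, [0, 0, 0, 0, 0, 2, 2]), (1496, [0, 0, 1, 1, 1, 1, 2, 2, 2]), (1509, [1, 1, 1, 2]), (1516, [0, 0, 0, 0, 0, 0, 1, 2]), (1518, [0, 0, 0, 0, 2]), (1521, [0, 0, 0, 0, 1]), (1526, [0, 0, 0, 0, 0, 1, 1, 2, 2, 2]), (1531, [0, 0, 0, 0, 0, 1, 1, 1, 2]), (1534, [0, 0, 0, 0, 0, 1, 2, 2]), (1546, [0, 0, 1, 1, 1, 2, 2, 2, 2, 2, 2]), (1557, [0, 1, 1, 1, 1, 1, 2, 2, 2, 2, 2]), (1560, [0, 0, 0, 0, 0, 1, 1, 1, 1, 1, 2, 2, 2]), (1563, [0, 0, 0, 0, 0, 0, 1, 1, 1, 1, 1, 1, 2, 2, 2, 2, 2]), (1564, [0, 0, 0, 0, 1, 1, 2, 2, 2, 2, 2, 2]), (1574,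 [0, 0, 0, 0, 0, 1, 1, 1, 1, 1, 1, 2, 2, 2, 2, 2, 2]), (1579, [0, 2, 2]), (1582, [0, 0, 0, 0, 0, 0, 1, 1, 1, 1, 1, 2, 2, 2, 2]), (1584, [0, 0, 0, 1, 1, 1, 1, 1, 1, 2, 2, 2, 2, 2]), (1589, [0, 0, 0, 0, 0, 0, 1, 1, 2, 2, 2, 2, 2]), (1602, [0, 0, 0, 0, 0, 0, 1, 2, 2, 2, 2, 2]), (1608, [0, 0, 1, 2]), (1610, [0, 0, 0, 1, 2, 2, 2, 2, 2, 2]), (1615, [0, 0, 0, 1, 1, 1, 2, 2, 2, 2, 2, 2]), (1634, [1, 2]), (1641, [1, 1, 1, 1, 1, 1, 2, 2, 2]), (1642, [0, 0, 0, 0, 0, 0, 1, 1, 1, 1, 1, 1, 2, 2, 2, 2, 2, 2]), (1643, [0, 0, 0, 1, 1, 2, 2, 2, 2, 2]), (1646, [0, 0, 0, 0, 1, 1, 1, 1]), (1652, [0, 0, 0, 0, 1, 1, 1, 1, 2, 2, 2, 2, 2, 2]), (1657, [0, 0, 0, 1, 1]), (1662, [0, 0, 2]), (1665, [0, 1, 1, 1, 2]), (1666, [0, 0, 0, 0, 1, 1, 1, 2, 2, 2]), (1669,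 [0, 0, 0, 0, 1, 1]), (1672, [0, 0, 0, 2, 2, 2, 2]), (1683, [0, 0, 0, 0, 0, 0, 1, 1, 1, 1, 1, 2, 2, 2, 2, 2]), (1692, [0, 0, 0, 0, 0, 1, 1, 1, 1, 2, 2, 2]), (1694, [0, 1, 1, 1, 1, 2]), (1718, [1, 1, 1, 1, 2, 2, 2, 2, 2, 2]), (1721, [0, 0, 0, 0, 0, 1, 1, 1, 1, 2, 2]), (1727, [0, 0, 0, 1, 1, 1, 1, 2, 2]), (1746, [0, 1, 1, 1, 1, 2, 2, 2, 2, 2, 2]), (1753, [0, 1, 1, 1, 1, 1, 1, 2, 2, 2, 2]), (1765, [1, 1, 1, 1, 1, 1, 2]), (1766, [0, 0, 0, 0, 0, 0, 1, 1, 2, 2, 2, 2]), (1774, [0, 0, 0, 0, 1, 1, 1, 1, 1, 2, 2, 2, 2, 2]), (1777, [0, 0, 0, 0, 0, 0, 1, 1, 1, 1, 1, 2, 2]), (1778, [0, 0, 0, 1]), (1779, [0, 1, 1, 1, 2, 2, 2, 2, 2]), (1782, [0, 0, 0, 0, 1, 1, 1, 1, 1]), (1788, [0, 0, 0]), (1790, [0, 0, 0, 0, 0, 1, 1, 1, 1, 1]), (1796, [0, 0, 0,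 0, 0, 1, 1, 1, 2, 2, 2]), (1802, [0, 0, 0, 0, 0, 1, 1, 1, 2, 2, 2, 2, 2]), (1803, [0, 1, 1, 1, 2, 2, 2, 2, 2, 2]), (1806, [0, 0, 0, 0, 1, 1, 1, 1, 1, 2, 2, 2, 2]), (1807, [0, 1, 1, 1, 1, 1, 1, 2, 2, 2, 2, 2, 2]), (1810, [0, 0, 0, 0, 1, 1, 1, 2, 2, 2, 2, 2]), (1829, [0, 0, 1, 2, 2, 2, 2, 2, 2]), (1835, [0, 0, 0, 1, 2, 2, 2, 2, 2]), (1839, [1, 1, 2]), (1844, [0, 0, 0, 0, 0, 0, 1, 1, 1, 1, 1, 1, 2, 2, 2]), (1850, [0, 0, 1, 1, 1, 1, 1, 1, 2, 2, 2, 2, 2, 2]), (1852, [0, 1, 1, 1, 1, 1, 2, 2]), (1856, [0, 0, 0, 1, 1, 1, 1, 2, 2, 2]), (1861, [0, 0, 0, 0, 1, 1, 1, 1, 1, 1, 2, 2, 2, 2]), (1884, [0, 0, 1, 1, 2, 2, 2, 2, 2, 2]), (1886, [0, 0, 0, 0, 0, 0, 1, 1, 1, 2, 2, 2, 2, 2]), (1894, [0, 0, 0, 0, 0, 1, 1, 1, 1, 2, 2, 2, 2, 2, 2]), (1908, [0,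 0, 0, 0, 0, 2, 2, 2, 2]), (1912, [0, 0, 1, 1, 1, 1, 1, 2, 2, 2, 2, 2, 2]), (1914, [1, 1, 1, 1, 1, 1, 2, 2, 2, 2, 2, 2]), (1923, [0, 0, 0, 0, 1, 2, 2, 2, 2, 2, 2]), (1941, [0, 0, 0, 1, 2]), (1951, [1, 1, 1, 1, 2]), (1955, [2, 2, 2, 2]), (1980, [0, 0, 0, 0, 1, 2, 2]), (1986, [0, 0, 0, 0, 0, 1, 1]), (1990, [0, 1]), (1994, [0, 0, 0, 1, 1, 1, 1, 1, 2, 2]), (2001, [0, 0, 1, 1, 1, 1, 2]), (2002, [0, 0, 0, 1, 1, 1, 1, 1, 1, 2, 2, 2, 2]), (2005, [1, 2, 2]), (2006, [0, 1, 1, 2, 2]), (2009, [0, 0, 0, 1, 1, 1, 1]), (2010, [1, 1, 1, 1, 2, 2, 2, 2]), (2014, [0, 0, 0, 0, 0, 0, 1, 1, 1, 1, 1, 2, 2, 2, 2, 2, 2]), (2022, [1, 2, 2, 2]), (2023, [1, 1, 1, 1, 1, 1, 2, 2]), (2029, [0, 0, 1, 1, 1, 2]), (2034, [0, 0, 1, 1, 2, 2, 2, 2]), (2048, [0, 0, 0, 0,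 0, 0, 1, 1, 2, 2, 2])])]

theorem ident_ok : identOK CfsgLib.Spor.Held.ActH.act cert sw gw CfsgLib.Spor.HeldOut.levZ = true := by decide +kernel

theorem sub_ok : subChainOK CfsgLib.Spor.Held.ActH.act sw [] orbits = true := by decide +kernel

theorem shape_ok : cert.shapeOK = true := by decide +kernel

theorem lin_ok : cert.linOK = true := by decide +kernel

theorem prod_ok : cert.p ^ cert.m ≤ (orbits.map fun e => e.2.length).prod := by decide +kernel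

end CfsgLib.Spor.HeldMult.P7
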