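import Cfsg.Agent.Lib.Spor.HeldMult.P2
import Cfsg.Agent.Lib.Spor.HeldMult.P3
import Cfsg.Agent.Lib.Spor.HeldMult.P5
import Cfsg.Agent.Lib.Spor.HeldMult.P7
import Cfsg.Agent.Lib.Spor.HeldMult.P17
import Cfsg.Agent.Lib.Spor.HeldOut.Out
import Cfsg.Agent.Lib.Lie.Mult.Sylow
import Cfsg.Agent.Lib.PGroup.StemExtension

/-!
The Schur multiplier of the Held group is trivial: a certificate at each prime dividing the order.
-/

set_option autoImplicit false

namespace CfsgLib.Spor.HeldMult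

open CfsgLib.Spor.TC CfsgLib.Spor.ActCert CfsgLib.Spor.SchurCert

theorem factors : (4030387200 : ℕ).factorization 2 = 10 ∧ (4030387200 : ℕ).factorization 3 = 3 ∧
    (4030387200 : ℕ).factorization 5 = 2 ∧ (4030387200 : ℕ).factorization 7 = 3 ∧
    (4030387200 : ℕ).factorization 17 = 1 := by
  have key : ∀ (p a b : ℕ), p.Prime → ¬ p ∣ b → b ≠ 0 → (p ^ a * b).factorization p = a := by
    intro p a b hp hb h0
    rw [Nat.factorization_mul (pow_ne_zero _ hp.ne_zero) h0, Nat.factorization_pow, Finsupp.add_apply,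
      Finsupp.smul_apply, hp.factorization_self, Nat.factorization_eq_zero_of_not_dvd hb]
    simp
  refine ⟨?_, ?_, ?_, ?_, ?_⟩
  · exact (congrArg (fun n : ℕ => n.factorization 2) (by norm_num : (4030387200 : ℕ) = 2 ^ 10 * 3935925)).trans
      (key 2 10 3935925 (by norm_num) (by norm_num) (by norm_num))
  · exact (congrArg (fun n : ℕ => n.factorization 3) (by norm_num : (4030387200 : ℕ) = 3 ^ 3 * 149273600)).trans
      (key 3 3 149273600 (by norm_num) (by norm_num) (by norm_num))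
  · exact (congrArg (fun n : ℕ => n.factorization 5) (by norm_num : (4030387200 : ℕ) = 5 ^ 2 * 161215488)).trans
      (key 5 2 161215488 (by norm_num) (by norm_num) (by norm_num))
  · exact (congrArg (fun n : ℕ => n.factorization 7) (by norm_num : (4030387200 : ℕ) = 7 ^ 3 * 11750400)).trans
      (key 7 3 11750400 (by norm_num) (by norm_num) (by norm_num))
  · exact (congrArg (fun n : ℕ => n.factorization 17) (by norm_num : (4030387200 : ℕ) = 17 ^ 1 * 237081600)).trans
      (key 17 1 237081600 (by norm_num) (by norm_num) (by norm_num))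

theorem ker_eq_bot {Γ : Type} [Group Γ] [Finite Γ]
    (σ : Γ →* Pres CfsgLib.Spor.Held.ActH.act.k CfsgLib.Spor.Held.relsG) (hσ : Cfsg.IsStemExtension σ) :
    σ.ker = ⊥ := by
  have hE := HeldOut.exact_of HeldOut.chainZ_ok
  have : Finite (Pres CfsgLib.Spor.Held.ActH.act.k CfsgLib.Spor.Held.relsG) :=
    Nat.finite_of_card_ne_zero (by rw [Held.card_held]; norm_num)
  obtain ⟨f2, f3, f5, f7, f17⟩ := factors
  refine Lie.Mult.ker_eq_bot_of_forall fun ℓ hℓ => ?_
  have : Fact ℓ.Prime := ⟨hℓ⟩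
  by_cases h2 : ℓ = 2
  · subst h2
    haveI : Fact P2.cert.p.Prime := ⟨Nat.prime_two⟩
    exact not_dvd_ker_act hE P2.cert P2.sw P2.gw P2.orbits rfl rfl (by rw [Held.card_held]; exact f2) P2.ident_ok
      P2.sub_ok P2.prod_ok P2.shape_ok P2.lin_ok σ hσ
  by_cases h3 : ℓ = 3
  · subst h3
    haveI : Fact P3.cert.p.Prime := ⟨Nat.prime_three⟩
    exact not_dvd_ker_act hE P3.cert P3.sw P3.gw P3.orbits rfl rfl (by rw [Held.card_held]; exact f3) P3.ident_ok
      P3.sub_ok P3.prod_ok P3.shape_ok P3.lin_ok σ hσ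
  by_cases h5 : ℓ = 5
  · subst h5
    haveI : Fact P5.cert.p.Prime := ⟨Nat.prime_five⟩
    exact not_dvd_ker_act hE P5.cert P5.sw P5.gw P5.orbits rfl rfl (by rw [Held.card_held]; exact f5) P5.ident_ok
      P5.sub_ok P5.prod_ok P5.shape_ok P5.lin_ok σ hσ
  by_cases h7 : ℓ = 7
  · subst h7
    haveI : Fact P7.cert.p.Prime := ⟨by rw [show P7.cert.p = 7 from rfl]; norm_num⟩
    exact not_dvd_ker_act hE P7.cert P7.sw P7.gw P7.orbits rfl rfl (by rw [Held.card_held]; exact f7) P7.ident_ok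
      P7.sub_ok P7.prod_ok P7.shape_ok P7.lin_ok σ hσ
  by_cases h17 : ℓ = 17
  · subst h17
    haveI : Fact P17.cert.p.Prime := ⟨by rw [show P17.cert.p = 17 from rfl]; norm_num⟩
    exact not_dvd_ker_act hE P17.cert P17.sw P17.gw P17.orbits rfl rfl (by rw [Held.card_held]; exact f17)
      P17.ident_ok P17.sub_ok P17.prod_ok P17.shape_ok P17.lin_ok σ hσ
  refine Lie.Mult.not_dvd_ker_of_cyclic hσ ⊥ ?_
  rw [Subgroup.index_bot, Held.card_held]
  intro hd
  have e : (4030387200 : ℕ) = 2 ^ 10 * 3 ^ 3 * 5 ^ 2 * 7 ^ 3 * 17 := by norm_num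
  rw [e] at hd
  have hp : ∀ q a : ℕ, q.Prime → ℓ ∣ q ^ a → ℓ = q := fun q a hq hdv =>
    (Nat.prime_dvd_prime_iff_eq hℓ hq).1 (hℓ.dvd_of_dvd_pow hdv)
  rcases hℓ.dvd_mul.1 hd with hd | hd
  · rcases hℓ.dvd_mul.1 hd with hd | hd
    · rcases hℓ.dvd_mul.1 hd with hd | hd
      · rcases hℓ.dvd_mul.1 hd with hd | hd
        · exact h2 (hp 2 10 Nat.prime_two hd)
        · exact h3 (hp 3 3 Nat.prime_three hd)
      · exact h5 (hp 5 2 Nat.prime_five hd)
    · exact h7 (hp 7 3 (by norm_num) hd)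
  · exact h17 ((Nat.prime_dvd_prime_iff_eq hℓ (by norm_num)).1 hd)

theorem multiplier_He : Cfsg.HasCyclicSchurMultiplier Cfsg.Spor.He 1 := by
  obtain ⟨e, -⟩ := Held.exists_equiv_gen
  have : Finite (Pres CfsgLib.Spor.Held.ActH.act.k CfsgLib.Spor.Held.relsG) :=
    Nat.finite_of_card_ne_zero (by rw [Held.card_held]; norm_num)
  have : Finite (Pres 7 CfsgLib.Spor.Held.relsG) := this
  have : Finite Cfsg.Spor.He := Finite.of_equiv _ e.toEquiv
  exact Lie.Mult.hasCyclic_one_congr e fun Γ _ _ σ hσ => ker_eq_bot σ hσ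

end CfsgLib.Spor.HeldMult
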