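import Cfsg.Agent.Lib.Spor.SchurCert.ActBridge
import Cfsg.Agent.Lib.Spor.Held.ActH.Data
import Cfsg.Agent.Lib.Spor.HeldOut.ChainZ

/-!
The certificate at the prime 2: a polycyclic sequence of a Sylow subgroup and conjugations killing the tails.
-/

set_option autoImplicit false
set_option maxRecDepth 100000
set_option maxHeartbeats 0

namespace CfsgLib.Spor.HeldMult.P2

open CfsgLib.Spor.TC CfsgLib.Spor.ActCert CfsgLib.Spor.SchurCert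

/-- The Sylow elements. -/
def sw : List (List ℕ) := [
    [4, 5, 1, 0, 5, 2, 5, 3, 0, 5, 2, 4, 5, 4, 3, 2, 5, 0, 1, 3, 6, 0, 4, 3, 5, 2, 3, 6, 4, 2, 3, 1, 2, 3, 4, 1],
    [4, 3, 2, 3, 6, 4, 3, 5, 2, 4, 5, 3, 0, 1, 5, 3, 5, 2, 6, 5, 1, 0, 6, 6, 3, 5, 2, 3, 6, 2, 3, 2, 3, 4, 3, 1, 2],
    [0, 3, 2, 0, 3, 1, 0, 6, 4, 2, 4, 3, 2, 0, 1, 4, 6, 0, 3, 5, 0, 2, 0, 5, 0, 6, 3, 2, 3, 6, 3, 5, 3, 1, 2, 3, 6, 4, 0, 1],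
    [1, 6, 4, 6, 2, 3, 5, 1, 2, 5, 6, 1, 4, 5, 2, 3, 5, 2, 3, 2, 4, 3, 5, 4, 1, 2, 3, 2, 3, 6, 2, 3, 2, 3, 1],
    [1, 2, 4, 1, 5, 1, 5, 3, 2, 1, 5, 0, 3, 0, 3, 4, 3, 2, 3, 4, 3, 1, 2, 5, 3, 4, 2, 3, 1, 2, 3, 5, 2, 3, 1, 2, 3, 5, 3, 1],
    [0, 3, 1, 4, 3, 4, 2, 3, 5, 0, 4, 6, 2, 1, 5, 3, 2, 3, 2, 4, 3, 6, 3, 5, 1, 2, 3, 4, 2, 3, 2, 0, 1],
    [5, 3, 5, 6, 2, 6, 3, 2, 5, 4, 5, 2, 3, 2, 1, 3, 2, 3, 2, 4, 0, 3, 5, 3, 4, 2, 3, 1, 2, 3, 2, 3, 6, 3, 4, 2],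
    [6, 0, 3, 1, 5, 2, 2, 3, 4, 2, 3, 2, 3, 5, 3, 4, 0, 1, 0],
    [3, 4, 1, 3, 5, 6, 2, 1, 4, 3, 2, 5, 0, 3, 5, 6, 1, 2, 6, 3, 2, 1, 0, 2, 1, 3, 3, 5, 3, 2, 3, 1, 2, 3, 4, 2, 3, 5, 3, 4],
    [6, 5, 0, 6, 3, 6, 0, 6, 5, 6, 5, 2, 3, 2, 1, 0, 3, 2, 1, 6, 5, 4, 5, 6, 3, 6, 0, 2, 3, 2, 3, 1, 2, 3, 2, 3, 6, 4, 3, 5, 4]]

/-- The conjugating elements. -/
def gw : List (List ℕ) := [
    [4, 6, 3, 0, 6, 2, 1, 3, 0, 2, 1, 5, 3, 6, 5, 0, 3, 4, 6, 5, 3, 1, 2, 3, 0, 1, 2, 3, 6, 3, 4, 0],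
    [5, 1, 5, 6, 3, 2, 6, 5, 3, 2, 1, 4, 3, 5, 2, 5, 1, 3, 2, 3, 4, 6, 1, 5, 3, 6, 4, 2, 3, 2, 3, 6, 4, 3, 5, 1, 0],
    [5, 3, 5, 4, 2, 1, 0, 5, 0, 6, 2, 4, 3, 6, 2, 3, 6, 0, 4, 6, 0, 2, 1, 2, 6, 3, 6, 0, 4, 2, 3, 5, 2, 3, 2, 3, 6, 1, 2, 3, 5],
    [3, 6, 4, 3, 1, 0, 2, 3, 4, 5, 0, 5, 3, 5, 2, 6, 1, 2, 3, 5, 3, 5, 2, 5, 1, 4, 3, 6, 2, 3, 1, 2, 3, 1, 2, 3, 5, 3, 6, 2, 3],
    [5, 3, 6, 5, 3, 6, 2, 1, 6, 4, 3, 5, 2, 3, 5, 3, 2, 5, 1, 4, 0, 3, 2, 4, 3, 1, 2, 3, 1, 2, 3, 5, 6, 1, 2, 3, 5, 1],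
    [4, 6, 3, 2, 0, 4, 0, 1, 3, 4, 0, 2, 0, 1, 2, 4, 6, 2, 6, 3, 6, 4, 3, 2, 3, 4, 3, 1, 2, 3, 6, 4, 0]]

/-- The certificate. -/
def cert : SchurCert.Cert where
  p := 2
  m := 10
  N := 2
  rules := [
    ([0, 0], [4, 5, 8]),
    ([1, 1], [8]),
    ([2, 2], [5, 6, 9]),
    ([3, 3], []),
    ([4, 4], [8]),
    ([5, 5], []),
    ([6, 6], [9]),
    ([7, 7], []),
    ([8, 8], []),
    ([9, 9], []),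
    ([1, 0], [0, 1, 4, 5, 9]),
    ([2, 0], [0, 2, 3, 6, 8, 9]),
    ([2, 1], [1, 2, 3, 6, 8]),
    ([3, 0], [0, 3, 5, 6, 7, 8, 9]),
    ([3, 1], [1, 3, 8]),
    ([3, 2], [2, 3, 8]),
    ([4, 0], [0, 4, 7, 8, 9]),
    ([4, 1], [1, 4, 8]),
    ([4, 2], [2, 4, 5, 6, 8]),
    ([4, 3], [3, 4, 8]),
    ([5, 0], [0, 5, 7, 8]),
    ([5, 1], [1, 5, 8]),
    ([5, 2], [2, 5, 8]),
    ([5, 3], [3, 5]),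
    ([5, 4], [4, 5, 8, 9]),
    ([6, 0], [0, 6, 7, 8, 9]),
    ([6, 1], [1, 6, 8, 9]),
    ([6, 2], [2, 6, 8]),
    ([6, 3], [3, 6, 9]),
    ([6, 4], [4, 6, 8]),
    ([6, 5], [5, 6, 9]),
    ([7, 0], [0, 7, 8]),
    ([7, 1], [1, 7, 8, 9]),
    ([7, 2], [2, 7]),
    ([7, 3], [3, 7, 9]),
    ([7, 4], [4, 7, 9]),
    ([7, 5], [5, 7]),
    ([7, 6], [6, 7]),
    ([8, 0], [0, 8, 9]),
    ([8, 1], [1, 8]),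
    ([8, 2], [2, 8, 9]),
    ([8, 3], [3, 8]),
    ([8, 4], [4, 8]),
    ([8, 5], [5, 8]),
    ([8, 6], [6, 8]),
    ([8, 7], [7, 8]),
    ([9, 0], [0, 9]),
    ([9, 1], [1, 9]),
    ([9, 2], [2, 9]),
    ([9, 3], [3, 9]),
    ([9, 4], [4, 9]),
    ([9, 5], [5, 9]),
    ([9, 6], [6, 9]),
    ([9, 7], [7, 9]),
    ([9, 8], [8, 9])]
  maps := [
    [([1, 4, 5, 6, 7, 9], [3, 5, 8]), ([3, 5, 8], [1, 4, 5, 6, 7, 9])],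
    [([0, 2], [0, 2, 3, 4]), ([1], [1, 3, 4, 7, 8, 9]), ([3], [1, 4, 6, 7, 8]), ([4], [1, 3, 6, 7, 9]), ([5], [5, 8, 9]), ([6], [3, 4, 6, 7, 8, 9]), ([7], [7]), ([8], [9]), ([9], [8])],
    [([0, 1, 8], [0, 1, 2, 3, 4, 5, 7, 8]), ([2, 4, 6], [0, 1, 3, 7, 8]), ([3], [0, 1, 2, 4, 6, 7, 8, 9]), ([5, 6, 8], [2, 3, 4, 6, 7, 8, 9]), ([7], [2, 3, 4, 6, 7, 8]), ([9], [5, 6, 7, 8])],
    [([1, 4, 6, 7], [3, 5]), ([3, 9], [3, 9]), ([5, 9], [1, 3, 4, 6, 7, 8, 9]), ([8], [1, 4, 5, 6, 7, 8])],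
    [([1, 6], [1, 4, 7, 8, 9]), ([3, 6], [3, 6]), ([4, 6, 7], [4, 6, 7]), ([5, 6], [4, 5, 7]), ([8], [1, 3, 4, 5, 7, 8]), ([9], [1, 3, 5, 6, 9])],
    [([0, 1], [0, 1]), ([2], [0, 1, 2, 5, 6, 9]), ([3], [3]), ([4], [0, 1, 2, 5, 8]), ([5], [2, 4, 5, 6, 7, 9]), ([6], [2, 4, 7, 9]), ([7], [5, 6, 8, 9]), ([8], [5, 6, 7, 9]), ([9], [9])]]
  overlaps := [
    ([0, 0, 0], [(0, 0), (38, 2), (20, 1), (16, 0), (51, 4), (43, 3), (36, 2), (53, 5), (45, 4), (7, 3), (54, 4), (8, 3), (54, 3), (9, 4)], [(0, 1)]),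
    ([1, 1, 1], [(1, 0), (39, 0)], [(1, 1)]),
    ([1, 1, 0], [(1, 0), (38, 0)], [(10, 1), (10, 0), (47, 4), (21, 3), (17, 2), (1, 1), (42, 1), (8, 2), (50, 4), (42, 3), (24, 2), (4, 1), (43, 1), (8, 2), (54, 2), (9, 3), (43, 2), (5, 1)]),
    ([1, 0, 0], [(0, 1)], [(10, 0), (46, 4), (20, 3), (16, 2), (10, 1), (0, 0), (39, 2), (21, 1), (17, 0), (43, 2), (8, 3), (42, 3), (24, 2), (4, 1), (43, 1), (8, 2), (54, 2), (51, 3), (43, 2), (5, 1), (9, 2), (42, 1), (45, 2), (8, 3), (51, 3), (36, 2), (53, 4), (7, 3), (54, 3), (9, 4)]),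
    ([2, 2, 2], [(2, 0), (48, 2), (27, 1), (22, 0), (44, 2), (8, 3)], [(2, 1)]),
    ([2, 2, 0], [(2, 0), (46, 2), (25, 1), (20, 0), (44, 3), (37, 2), (45, 4), (7, 3), (8, 3), (9, 3)], [(11, 1), (11, 0), (48, 5), (40, 4), (27, 3), (15, 2), (2, 1), (49, 3), (28, 2), (23, 1), (9, 4), (44, 4), (6, 3), (54, 3), (54, 4), (8, 3), (54, 3), (9, 4), (49, 4), (41, 3), (23, 2), (3, 1), (52, 3), (44, 2), (54, 4), (8, 3), (9, 3)]),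
    ([2, 0, 0], [(0, 1)], [(11, 0), (46, 5), (38, 4), (25, 3), (13, 2), (11, 1), (0, 0), (40, 2), (22, 1), (18, 0), (43, 4), (30, 3), (5, 2), (54, 3), (54, 4), (8, 3), (54, 3), (9, 4), (41, 3), (28, 2), (19, 1), (44, 3), (54, 5), (8, 4), (52, 4), (6, 3), (9, 3), (49, 4), (41, 3), (19, 2), (3, 1), (8, 2), (51, 2), (52, 3), (53, 4), (54, 5), (9, 6), (44, 5), (37, 4), (6, 3), (53, 3), (54, 4), (53, 5), (45, 4), (7, 3), (54, 4), (8, 3), (9, 3), (9, 4)]),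
    ([2, 2, 1], [(2, 0), (47, 2), (26, 1), (21, 0), (44, 2), (8, 3), (9, 3)], [(12, 1), (12, 0), (40, 4), (27, 3), (15, 2), (2, 1), (49, 3), (28, 2), (23, 1), (9, 4), (44, 4), (6, 3), (54, 3), (54, 4), (8, 3), (54, 3), (9, 4), (41, 3), (23, 2), (3, 1), (44, 2), (8, 3)]),
    ([2, 1, 1], [(1, 1)], [(12, 0), (39, 4), (26, 3), (14, 2), (12, 1), (1, 0), (40, 0), (49, 2), (41, 1), (52, 3), (44, 2), (54, 4), (8, 3), (49, 3), (28, 2), (3, 1), (9, 2), (44, 2), (6, 1), (54, 1), (54, 2), (8, 1), (9, 1)]),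
    ([2, 1, 0], [(12, 0), (38, 4), (25, 3), (13, 2), (11, 1), (10, 0), (48, 4), (22, 3), (18, 2), (43, 6), (30, 5), (5, 4), (54, 5), (54, 6), (8, 5), (9, 5), (28, 4), (19, 3), (44, 5), (52, 7), (44, 6), (6, 5), (54, 5), (9, 6), (8, 5), (49, 5), (19, 4), (3, 3), (51, 5), (43, 4), (52, 6), (44, 5), (53, 7), (45, 6), (54, 8), (8, 7), (9, 7), (37, 6), (6, 5), (53, 5), (53, 6), (7, 5), (54, 5), (9, 6), (8, 5)], [(10, 1), (11, 0), (47, 5), (39, 4), (26, 3), (14, 2), (12, 1), (41, 5), (28, 4), (3, 3), (54, 4), (54, 5), (8, 4), (52, 4), (6, 3), (9, 3), (54, 4), (8, 3), (9, 3)]),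
    ([3, 3, 0], [(3, 0)], [(13, 1), (13, 0), (49, 6), (41, 5), (34, 4), (28, 3), (23, 2), (3, 1), (53, 3), (9, 4), (51, 5), (43, 4), (36, 3), (30, 2), (5, 1), (53, 2), (54, 3), (9, 4), (44, 3), (37, 2), (6, 1), (53, 1), (54, 2), (53, 3), (45, 2), (7, 1), (54, 2), (8, 1), (9, 1)]),
    ([3, 0, 0], [(0, 1)], [(13, 0), (46, 6), (38, 5), (31, 4), (25, 3), (20, 2), (13, 1), (0, 0), (41, 2), (23, 1), (19, 0), (43, 2), (8, 3), (5, 2), (51, 5), (43, 4), (36, 3), (30, 2), (53, 4), (54, 5), (9, 6), (45, 5), (7, 4), (8, 4), (6, 3), (53, 3), (54, 4), (9, 5), (45, 4), (7, 3), (8, 3), (9, 4)]),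
    ([3, 3, 1], [(3, 0)], [(14, 1), (14, 0), (41, 2), (3, 1), (8, 1)]),
    ([3, 1, 0], [(14, 0), (38, 2), (13, 1), (10, 0), (49, 4), (23, 3), (19, 2), (43, 4), (51, 6), (43, 5), (5, 4), (52, 5), (44, 4), (53, 6), (45, 5), (54, 7), (8, 6), (9, 6)], [(10, 1), (13, 0), (47, 6), (39, 5), (32, 4), (26, 3), (21, 2), (14, 1), (43, 3), (8, 4), (53, 6), (45, 5), (54, 7), (8, 6), (9, 6), (50, 7), (42, 6), (35, 5), (29, 4), (24, 3), (52, 6), (44, 5), (54, 7), (8, 6), (53, 6), (9, 7), (51, 8), (43, 7), (36, 6), (30, 5), (5, 4), (53, 5), (54, 6), (9, 7)]),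
    ([3, 2, 2], [(2, 1)], [(15, 0), (40, 2), (15, 1), (2, 0), (49, 2), (28, 1), (23, 0), (9, 3), (8, 3)]),
    ([3, 2, 0], [(15, 0), (38, 2), (13, 1), (11, 0), (49, 5), (41, 4), (28, 3), (3, 2), (54, 3), (9, 4), (43, 3), (30, 2), (54, 4), (52, 5), (44, 4), (6, 3), (54, 3), (9, 4), (45, 3), (8, 4), (54, 4), (9, 5)], [(11, 1), (13, 0), (48, 6), (40, 5), (33, 4), (27, 3), (22, 2), (15, 1), (43, 3), (8, 4), (45, 5), (8, 6), (9, 6), (34, 5), (28, 4), (23, 3), (3, 2), (53, 4), (9, 5), (37, 4), (6, 3), (53, 3), (54, 4), (9, 5)]),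
    ([3, 2, 1], [(15, 0), (39, 2), (14, 1), (12, 0), (41, 4), (28, 3), (3, 2), (54, 3), (54, 4), (8, 3), (54, 3)], [(12, 1), (14, 0), (40, 2), (15, 1), (8, 3), (49, 3), (3, 2), (52, 2), (54, 3)]),
    ([4, 4, 4], [(4, 0), (42, 0)], [(4, 1)]),
    ([4, 4, 0], [(4, 0), (38, 0)], [(16, 1), (16, 0), (50, 4), (42, 3), (35, 2), (4, 1), (45, 1), (54, 3), (8, 2), (9, 2), (7, 1)]),
    ([4, 0, 0], [(0, 1), (4, 0), (43, 0), (8, 1)], [(16, 0), (46, 4), (38, 3), (31, 2), (16, 1), (0, 0), (42, 2), (24, 1), (4, 0), (43, 0), (8, 1), (54, 1), (53, 2), (45, 1), (54, 3), (8, 2), (9, 2), (7, 1), (8, 1), (9, 1)]),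
    ([4, 4, 1], [(4, 0), (39, 0)], [(17, 1), (17, 0), (42, 2), (4, 1), (8, 1)]),
    ([4, 1, 0], [(17, 0), (38, 2), (16, 1), (10, 0), (50, 4), (24, 3), (4, 2), (43, 2), (8, 3), (9, 3), (54, 5), (8, 4), (9, 4)], [(10, 1), (16, 0), (47, 4), (39, 3), (32, 2), (17, 1), (45, 3), (8, 4), (54, 4), (9, 5), (42, 4), (35, 3), (4, 2), (45, 2), (54, 4), (8, 3), (51, 3), (36, 2), (9, 4)]),
    ([4, 4, 2], [(4, 0), (40, 0)], [(18, 1), (18, 0), (42, 4), (29, 3), (24, 2), (4, 1), (43, 1), (8, 2), (52, 2), (54, 3), (54, 4), (8, 3), (51, 3), (30, 2), (5, 1), (9, 2), (6, 1), (54, 1)]),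
    ([4, 2, 2], [(2, 1)], [(18, 0), (40, 4), (27, 3), (22, 2), (18, 1), (2, 0), (50, 2), (29, 1), (24, 0), (52, 3), (44, 2), (54, 4), (8, 3), (9, 3), (30, 2), (5, 1), (52, 2), (6, 1), (9, 1), (43, 1), (8, 2), (8, 3)]),
    ([4, 2, 0], [(18, 0), (38, 4), (25, 3), (20, 2), (16, 1), (11, 0), (50, 5), (42, 4), (29, 3), (8, 5), (53, 5), (54, 6), (9, 7), (43, 6), (36, 5), (30, 4), (53, 6), (54, 7), (53, 8), (45, 7), (7, 6), (54, 7), (8, 6), (52, 6), (6, 5), (9, 5), (54, 7), (8, 6), (9, 6)], [(11, 1), (16, 0), (48, 4), (40, 3), (33, 2), (18, 1), (45, 5), (8, 6), (9, 6), (34, 5), (28, 4), (23, 3), (19, 2), (43, 4), (44, 5), (53, 7), (45, 6), (9, 8), (44, 7), (37, 6), (6, 5), (53, 5), (54, 6), (54, 7), (8, 6), (9, 6)]),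
    ([4, 2, 1], [(18, 0), (39, 4), (26, 3), (21, 2), (17, 1), (12, 0), (42, 4), (29, 3), (8, 5), (43, 5), (30, 4), (54, 6), (54, 7), (8, 6), (52, 6), (6, 5), (9, 5), (54, 6), (8, 5)], [(12, 1), (17, 0), (40, 2), (18, 1), (8, 5), (49, 5), (28, 4), (23, 3), (19, 2), (43, 4), (44, 5), (9, 7), (44, 6), (6, 5), (54, 5), (54, 6), (8, 5)]),
    ([4, 3, 0], [(19, 0), (38, 2), (16, 1), (13, 0), (50, 6), (42, 5), (35, 4), (29, 3), (24, 2), (52, 5), (44, 4), (54, 6), (8, 5), (53, 5), (9, 6), (53, 7), (45, 6), (7, 5), (54, 6), (8, 5), (9, 5)], [(13, 1), (16, 0), (49, 4), (41, 3), (34, 2), (19, 1), (45, 3), (54, 5), (8, 4), (9, 4), (36, 3), (37, 4), (7, 5)]),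
    ([5, 5, 0], [(5, 0)], [(20, 1), (20, 0), (43, 3), (36, 2), (5, 1), (45, 2), (7, 1), (8, 1)]),
    ([5, 0, 0], [(0, 1), (24, 0), (51, 3), (43, 2), (5, 1), (54, 2), (8, 1)], [(20, 0), (38, 3), (31, 2), (20, 1), (0, 0), (43, 2), (5, 1), (45, 1), (8, 2), (7, 1), (8, 1)]),
    ([5, 5, 1], [(5, 0)], [(21, 1), (21, 0), (43, 2), (5, 1), (8, 1)]),
    ([5, 1, 0], [(21, 0), (38, 2), (20, 1), (10, 0), (51, 4), (5, 3), (53, 3), (54, 4), (54, 5), (8, 4), (9, 4)], [(10, 1), (20, 0), (39, 3), (32, 2), (21, 1), (45, 3), (8, 4), (54, 4), (50, 5), (42, 4), (35, 3), (24, 2), (53, 5), (45, 4), (9, 6), (8, 5), (51, 5), (36, 4), (5, 3), (9, 4)]),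
    ([5, 2, 2], [(2, 1), (5, 0)], [(22, 0), (40, 2), (22, 1), (2, 0), (51, 2), (30, 1), (5, 0), (9, 1), (8, 1)]),
    ([5, 2, 0], [(22, 0), (38, 2), (20, 1), (11, 0), (51, 5), (43, 4), (30, 3), (54, 5), (9, 6), (45, 5), (8, 6)], [(11, 1), (20, 0), (40, 3), (33, 2), (22, 1), (45, 3), (8, 4), (49, 4), (34, 3), (23, 2), (9, 5), (37, 4)]),
    ([5, 3, 0], [(23, 0), (20, 1), (13, 0), (51, 6), (43, 5), (36, 4), (30, 3), (5, 2), (53, 3), (54, 4), (9, 5), (45, 4), (7, 3), (8, 3)], [(13, 1), (20, 0), (41, 3), (34, 2), (23, 1), (54, 4), (51, 5), (43, 4), (36, 3), (5, 2), (52, 4), (44, 3), (37, 2), (53, 5), (45, 4), (7, 3), (54, 4), (8, 3), (9, 3)]),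
    ([5, 5, 4], [(5, 0)], [(24, 1), (24, 0), (51, 3), (43, 2), (5, 1), (54, 2), (8, 1), (9, 1)]),
    ([5, 4, 4], [(4, 1)], [(24, 0), (50, 3), (42, 2), (24, 1), (4, 0), (43, 0), (8, 1), (54, 1), (9, 2)]),
    ([7, 7, 0], [(7, 0)], [(31, 1), (31, 0), (45, 2), (7, 1), (8, 1)])]
  fuses := [
    ⟨0, [0, 0], [], [(47, 5), (32, 4), (26, 3), (21, 2), (17, 1), (1, 0), (42, 0), (8, 1), (44, 2), (8, 3), (53, 3), (54, 4), (9, 5), (50, 5), (42, 4), (35, 3), (29, 2), (24, 1), (4, 0), (43, 0), (8, 1), (52, 1), (54, 2), (53, 3), (45, 2), (9, 4), (8, 3), (51, 3), (36, 2), (30, 1), (5, 0), (53, 1), (9, 2), (37, 1), (6, 0), (53, 0), (53, 1), (7, 0), (9, 0)], [], [(41, 2), (23, 1), (3, 0), (43, 1), (5, 0), (8, 0)], []⟩,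
    ⟨1, [0, 0], [2, 3, 7, 8], [(11, 1), (0, 0), (40, 2), (22, 1), (18, 0), (43, 4), (30, 3), (5, 2), (54, 3), (54, 4), (8, 3), (54, 3), (9, 4), (41, 3), (28, 2), (19, 1), (44, 3), (54, 5), (8, 4), (52, 4), (6, 3), (9, 3), (48, 4), (40, 3), (18, 2), (15, 1), (2, 0), (49, 2), (28, 1), (23, 0), (9, 3), (42, 3), (29, 2), (24, 1), (52, 4), (44, 3), (54, 5), (8, 4), (54, 4), (51, 5), (43, 4), (30, 3), (5, 2), (54, 3), (9, 4), (44, 3), (6, 2), (54, 2), (54, 3), (8, 2), (54, 2), (9, 3)], [], [(16, 3), (13, 2), (11, 1), (0, 0), (40, 2), (22, 1), (18, 0), (43, 4), (30, 3), (5, 2), (54, 3), (54, 4), (8, 3), (54, 3), (9, 4), (41, 3), (28, 2), (19, 1), (44, 3), (54, 5), (8, 4), (52, 4), (6, 3), (9, 3), (49, 4), (41, 3), (19, 2), (3, 1), (8, 2), (51, 2), (52, 3), (53, 4), (54, 5), (9, 6), (42,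 5), (35, 4), (29, 3), (24, 2), (4, 1), (43, 1), (8, 2), (52, 2), (54, 3), (53, 4), (45, 3), (9, 5), (8, 4), (7, 3), (48, 4), (40, 3), (27, 2), (22, 1), (2, 0), (51, 2), (30, 1), (5, 0), (9, 1), (44, 1), (6, 0), (54, 0), (54, 1), (8, 0), (54, 0), (9, 1), (49, 1), (41, 0), (50, 2), (42, 1)], [(39, 4), (32, 3), (26, 2), (17, 1), (1, 0), (42, 0), (8, 1), (53, 3), (45, 2), (54, 4), (8, 3), (9, 3), (41, 3), (34, 2), (28, 1), (19, 0), (44, 2), (53, 4), (45, 3), (9, 5), (8, 4), (37, 3), (6, 2), (53, 2), (53, 3), (7, 2), (9, 2), (54, 2)]⟩,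
    ⟨1, [1, 0], [0, 1, 2, 3, 8], [(10, 0), (48, 4), (22, 3), (18, 2), (43, 6), (30, 5), (5, 4), (54, 5), (54, 6), (8, 5), (9, 5)], [(12, 1), (41, 5), (28, 4), (3, 3), (54, 4), (50, 5), (42, 4), (29, 3), (8, 5), (9, 5)], [(46, 5), (38, 4), (31, 3), (16, 2), (13, 1), (10, 0), (49, 4), (23, 3), (19, 2), (43, 4), (51, 6), (43, 5), (5, 4), (52, 5), (44, 4), (53, 6), (45, 5), (54, 7), (8, 6), (9, 6), (35, 5), (29, 4), (4, 3), (44, 3), (8, 4), (53, 5), (7, 4), (54, 4), (9, 5), (45, 4), (8, 5), (9, 6), (40, 5), (33, 4), (27, 3), (15, 2), (44, 4), (8, 5), (49, 7), (41, 6), (34, 5), (28, 4), (3, 3), (53, 4), (9, 5), (50, 6), (42, 5), (35, 4), (29, 3), (45, 5), (54, 7), (8, 6), (9, 6)], [(17, 3), (14, 2), (12, 1), (41, 5), (28, 4), (3, 3), (54, 4), (54, 5), (8, 4), (50, 4), (29, 3), (54,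 6), (8, 5), (49, 5), (28, 4), (19, 3), (44, 5), (9, 7), (42, 6), (29, 5), (4, 4), (44, 4), (8, 5), (45, 5), (8, 6), (47, 6), (32, 5), (26, 4), (14, 3), (12, 2), (1, 1), (40, 1), (49, 3), (41, 2), (52, 4), (44, 3), (54, 5), (8, 4), (49, 4), (28, 3), (3, 2), (9, 3), (44, 3), (6, 2), (54, 2), (54, 3), (8, 2), (9, 2), (9, 4), (42, 3), (35, 2), (54, 4), (52, 5), (44, 4), (37, 3), (53, 6), (45, 5), (7, 4), (54, 5), (8, 4), (47, 4), (26, 3), (17, 2), (12, 1), (42, 5), (29, 4), (8, 6), (44, 6), (6, 5), (54, 5), (54, 6), (8, 5), (9, 5), (49, 5), (19, 4), (3, 3), (52, 5), (44, 4), (53, 6), (45, 5), (9, 7), (8, 6)]⟩,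
    ⟨1, [2, 0], [0, 2, 4, 5, 6], [(13, 0), (48, 6), (40, 5), (33, 4), (27, 3), (22, 2), (15, 1), (43, 3), (8, 4), (45, 5), (8, 6), (9, 6)], [], [(38, 4), (31, 3), (25, 2), (16, 1), (10, 0), (50, 4), (24, 3), (4, 2), (43, 2), (8, 3), (9, 3), (52, 5), (44, 4), (37, 3), (53, 6), (45, 5), (7, 4), (54, 5), (8, 4), (9, 4), (8, 5), (48, 5), (33, 4), (27, 3), (22, 2), (44, 4), (8, 5), (49, 6), (34, 5), (28, 4), (23, 3), (53, 6), (9, 7), (50, 7), (35, 6), (29, 5), (24, 4), (52, 7), (44, 6), (54, 8), (8, 7), (53, 7), (9, 8)], [(17, 3), (14, 2), (12, 1), (41, 5), (28, 4), (3, 3), (54, 4), (54, 5), (8, 4), (50, 4), (29, 3), (54, 6), (8, 5), (50, 5), (29, 4), (4, 3), (44, 3), (8, 4), (52, 4), (6, 3), (9, 3), (43, 4), (36, 3), (8, 5), (49, 5), (34, 4), (23, 3), (9, 6), (35, 5), (24, 4), (53,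 7), (45, 6), (9, 8), (44, 7), (37, 6), (45, 8), (7, 7), (8, 7), (53, 7)]⟩,
    ⟨1, [3, 0], [0, 3, 4, 5, 6], [(16, 0), (48, 4), (40, 3), (33, 2), (18, 1), (45, 5), (8, 6), (9, 6)], [], [(46, 4), (31, 3), (25, 2), (13, 1), (10, 0), (49, 4), (23, 3), (19, 2), (43, 4), (51, 6), (43, 5), (5, 4), (52, 5), (44, 4), (53, 6), (45, 5), (54, 7), (8, 6), (9, 6), (37, 5), (6, 4), (53, 4), (53, 5), (7, 4), (54, 4), (9, 5), (45, 4), (8, 5), (48, 5), (33, 4), (18, 3), (15, 2), (42, 4), (43, 5), (44, 6), (8, 7), (49, 8), (34, 7), (28, 6), (23, 5), (19, 4), (3, 3), (43, 4), (44, 5), (53, 7), (45, 6), (9, 8), (50, 8), (42, 7), (35, 6), (29, 5), (24, 4), (4, 3), (43, 3), (8, 4), (52, 4), (54, 5), (53, 6), (45, 5), (9, 7), (8, 6)], [(17, 3), (14, 2), (12, 1), (41, 5), (28, 4), (3, 3), (54, 4), (54,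 5), (8, 4), (50, 4), (29, 3), (54, 6), (8, 5), (49, 5), (28, 4), (19, 3), (44, 5), (9, 7), (44, 6), (6, 5), (54, 5), (53, 6), (45, 5), (9, 7), (43, 6), (36, 5), (8, 7), (49, 7), (34, 6), (23, 5), (19, 4), (3, 3), (43, 4), (45, 5), (9, 7), (42, 6), (35, 5), (24, 4), (4, 3), (43, 3), (8, 4), (53, 4), (9, 5), (44, 5), (37, 4), (45, 6), (7, 5), (8, 5), (53, 5)]⟩,
    ⟨1, [4, 0], [0, 4, 6, 8], [(20, 0), (40, 3), (33, 2), (22, 1), (45, 3), (8, 4)], [], [(46, 2), (38, 1), (20, 0), (8, 3), (9, 3), (33, 2), (22, 1), (45, 3), (41, 4), (34, 3), (23, 2), (54, 5), (50, 6), (42, 5), (35, 4), (24, 3), (53, 6), (45, 5), (9, 7), (8, 6)], [(53, 6), (45, 5), (54, 7), (8, 6)]⟩,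
    ⟨1, [5, 0], [0, 5, 6], [(25, 0), (48, 4), (40, 3), (33, 2), (27, 1), (45, 3), (8, 4), (9, 4)], [], [(46, 5), (38, 4), (31, 3), (25, 2), (16, 1), (13, 0), (50, 6), (42, 5), (35, 4), (29, 3), (24, 2), (52, 5), (44, 4), (54, 6), (8, 5), (53, 5), (9, 6), (53, 7), (45, 6), (7, 5), (54, 6), (8, 5), (9, 5), (6, 4), (53, 4), (54, 5), (9, 6), (45, 5), (7, 4), (8, 4), (9, 5), (40, 4), (22, 3), (18, 2), (15, 1), (42, 3), (43, 4), (44, 5), (8, 6), (30, 5), (5, 4), (54, 5), (54, 6), (8, 5), (9, 5), (28, 4), (19, 3), (3, 2), (44, 3), (50, 5), (42, 4), (29, 3), (4, 2), (44, 2), (8, 3)], [(19, 3), (3, 2), (42, 3), (4, 2), (8, 2), (53, 5), (45, 4), (7, 3)]⟩,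
    ⟨1, [2, 1], [1, 2, 7], [(14, 0)], [], [(39, 4), (32, 3), (26, 2), (17, 1), (1, 0), (42, 0), (8, 1), (53, 3), (45, 2), (54, 4), (8, 3), (9, 3), (41, 3), (34, 2), (28, 1), (19, 0), (44, 2), (53, 4), (45, 3), (9, 5), (8, 4), (35, 3), (29, 2), (4, 1), (44, 1), (8, 2), (53, 3), (7, 2), (54, 2), (9, 3)], [(47, 5), (39, 4), (32, 3), (17, 2), (14, 1), (1, 0), (41, 0), (8, 1), (45, 2), (8, 3), (54, 3), (9, 4), (42, 3), (35, 2), (4, 1), (45, 1), (54, 3), (8, 2), (52, 2), (37, 1), (53, 3), (7, 2), (54, 2), (9, 3)]⟩,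
    ⟨1, [5, 1], [1, 5, 7, 8], [(26, 0)], [], [(47, 5), (39, 4), (32, 3), (26, 2), (17, 1), (14, 0), (42, 2), (8, 3), (53, 5), (45, 4), (54, 6), (8, 5), (9, 5), (49, 6), (41, 5), (34, 4), (28, 3), (19, 2), (3, 1), (44, 2), (53, 4), (45, 3), (9, 5), (8, 4), (50, 4), (35, 3), (29, 2), (4, 1), (44, 1), (8, 2), (9, 3), (7, 2)], [(49, 5), (41, 4), (34, 3), (19, 2), (3, 1), (45, 2), (54, 4), (8, 3), (9, 3), (35, 2), (4, 1), (45, 1), (52, 3), (44, 2), (37, 1), (53, 4), (45, 3), (7, 2), (54, 3), (8, 2), (9, 2), (54, 2)]⟩,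
    ⟨2, [0, 0], [5], [(38, 2), (10, 1), (0, 0), (39, 2), (21, 1), (17, 0), (43, 2), (8, 3), (42, 3), (24, 2), (4, 1), (43, 1), (8, 2), (54, 2), (51, 3), (43, 2), (5, 1), (9, 2), (8, 1), (47, 1), (1, 0), (54, 1), (8, 0)], [], [(38, 7), (31, 6), (20, 5), (16, 4), (13, 3), (11, 2), (10, 1), (0, 0), (39, 2), (21, 1), (17, 0), (43, 2), (8, 3), (42, 3), (24, 2), (4, 1), (43, 1), (8, 2), (54, 2), (51, 3), (43, 2), (5, 1), (9, 2), (40, 1), (49, 3), (41, 2), (52, 4), (44, 3), (54, 5), (8, 4), (9, 4), (28, 3), (3, 2), (51, 3), (30, 2), (9, 4), (6, 3), (53, 3), (54, 4), (9, 5), (42, 4), (35, 3), (24, 2), (53, 5), (45, 4), (9, 6), (8, 5), (7, 4), (51, 5), (43, 4), (5, 3), (53, 4), (45, 3), (54, 5), (8, 4), (53, 4), (7, 3), (54, 3), (54, 4), (8, 3), (9, 3), (17, 2), (12, 1), (1, 0), (40, 0),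 (49, 2), (41, 1), (52, 3), (44, 2), (54, 4), (8, 3), (50, 3), (29, 2), (54, 5), (8, 4), (48, 4), (27, 3), (18, 2), (15, 1), (2, 0), (49, 2), (28, 1), (23, 0), (9, 3), (42, 3), (29, 2), (24, 1), (52, 4), (44, 3), (54, 5), (8, 4), (54, 4), (51, 5), (43, 4), (30, 3), (5, 2), (54, 3), (9, 4), (44, 3), (6, 2), (54, 2), (54, 3), (8, 2), (52, 2), (54, 3), (9, 4), (41, 3), (28, 2), (19, 1), (3, 0), (44, 1), (54, 3), (8, 2), (50, 2), (29, 1), (4, 0), (44, 0), (8, 1), (51, 1), (30, 0), (9, 2)], []⟩,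
    ⟨2, [1, 0], [0, 1], [(25, 2), (16, 1), (11, 0), (50, 5), (42, 4), (29, 3), (8, 5), (53, 5), (54, 6), (9, 7), (44, 6), (37, 5), (6, 4), (53, 4), (54, 5), (53, 6), (45, 5), (7, 4), (54, 5), (8, 4), (9, 4), (17, 3), (14, 2), (12, 1), (41, 5), (28, 4), (3, 3), (54, 4), (54, 5), (8, 4), (50, 4), (29, 3), (54, 6), (8, 5), (54, 5)], [(40, 2), (50, 4), (42, 3), (52, 5), (44, 4)], [(38, 4), (31, 3), (13, 2), (10, 1), (0, 0), (39, 2), (21, 1), (17, 0), (43, 2), (8, 3), (42, 3), (24, 2), (4, 1), (43, 1), (8, 2), (54, 2), (51, 3), (43, 2), (5, 1), (9, 2), (41, 1), (43, 2), (44, 3), (45, 4), (8, 5), (53, 5), (7, 4), (54, 4), (54, 5), (8, 4), (9, 4), (26, 3), (21, 2), (14, 1), (1, 0), (41, 0), (8, 1), (44, 2), (8, 3), (48, 3), (27, 2), (22, 1), (15, 0), (43, 2), (8, 3), (49, 5), (41, 4),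 (28, 3), (23, 2), (3, 1), (54, 3), (9, 4), (42, 3), (29, 2), (24, 1), (52, 4), (44, 3), (54, 5), (8, 4), (54, 4), (51, 5), (43, 4), (30, 3), (5, 2), (54, 3), (9, 4), (45, 3), (8, 4)], [(38, 7), (31, 6), (20, 5), (16, 4), (13, 3), (11, 2), (10, 1), (0, 0), (39, 2), (21, 1), (17, 0), (43, 2), (8, 3), (42, 3), (24, 2), (4, 1), (43, 1), (8, 2), (54, 2), (51, 3), (43, 2), (5, 1), (9, 2), (40, 1), (49, 3), (41, 2), (52, 4), (44, 3), (54, 5), (8, 4), (9, 4), (28, 3), (3, 2), (51, 3), (30, 2), (9, 4), (6, 3), (53, 3), (54, 4), (9, 5), (42, 4), (35, 3), (24, 2), (53, 5), (45, 4), (9, 6), (8, 5), (7, 4), (51, 5), (43, 4), (5, 3), (53, 4), (45, 3), (54, 5), (8, 4), (53, 4), (7, 3), (54, 3), (54, 4), (8, 3), (9, 3), (17, 2), (12, 1), (1, 0), (40, 0), (49, 2), (41, 1), (52, 3), (44, 2), (54,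 4), (8, 3), (50, 3), (29, 2), (54, 5), (8, 4), (49, 4), (28, 3), (19, 2), (3, 1), (44, 2), (9, 4), (45, 3), (8, 4)]⟩,
    ⟨2, [3, 0], [0, 3, 5], [(38, 2), (25, 1), (20, 0), (44, 3), (37, 2), (45, 4), (7, 3), (8, 3), (54, 3), (9, 4), (39, 3), (26, 2), (21, 1), (44, 3), (8, 4), (54, 4), (54, 5), (8, 4)], [(43, 2), (44, 3), (8, 4)], [(46, 6), (38, 5), (31, 4), (25, 3), (16, 2), (13, 1), (11, 0), (49, 5), (41, 4), (28, 3), (3, 2), (54, 3), (9, 4), (43, 3), (30, 2), (54, 4), (52, 5), (44, 4), (6, 3), (54, 3), (9, 4), (45, 3), (8, 4), (50, 4), (35, 3), (24, 2), (53, 5), (45, 4), (9, 6), (53, 6), (45, 5), (7, 4), (54, 5), (8, 4), (9, 4), (53, 7), (45, 6), (7, 5), (54, 6), (8, 5), (54, 5), (9, 6), (47, 6), (39, 5), (26, 4), (21, 3), (17, 2), (12, 1), (42, 5), (29, 4), (8, 6), (43, 6),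 (30, 5), (54, 7), (54, 8), (8, 7), (52, 7), (6, 6), (9, 6), (54, 7), (8, 6), (9, 6), (22, 5), (18, 4), (15, 3), (2, 2), (49, 4), (28, 3), (23, 2), (9, 5), (42, 5), (29, 4), (24, 3), (52, 6), (44, 5), (54, 7), (8, 6), (54, 6), (51, 7), (43, 6), (30, 5), (5, 4), (54, 5), (9, 6), (44, 5), (6, 4), (54, 4), (54, 5), (8, 4), (51, 4), (54, 5), (49, 6), (41, 5), (23, 4), (19, 3), (3, 2), (43, 3), (8, 4), (50, 4), (24, 3), (4, 2), (43, 2), (8, 3), (9, 3), (5, 2)], [(40, 7), (33, 6), (22, 5), (18, 4), (15, 3), (2, 2), (49, 4), (28, 3), (23, 2), (9, 5), (42, 5), (29, 4), (24, 3), (52, 6), (44, 5), (54, 7), (8, 6), (54, 6), (51, 7), (43, 6), (30, 5), (5, 4), (54, 5), (9, 6), (44, 5), (6, 4), (54, 4), (54, 5), (8, 4), (51, 4), (54, 5), (53, 6), (45, 5), (54, 7), (8, 6), (9, 6), (34, 5), (23,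 4), (19, 3), (3, 2), (43, 3), (45, 4), (50, 6), (42, 5), (35, 4), (24, 3), (4, 2), (43, 2), (8, 3), (53, 3), (9, 4), (52, 5), (44, 4), (37, 3), (53, 6), (45, 5), (7, 4), (54, 5), (8, 4), (9, 4), (30, 3), (5, 2), (52, 3), (6, 2), (9, 2)]⟩,
    ⟨2, [4, 0], [0, 4, 5], [(31, 0), (39, 2), (32, 1), (54, 4), (8, 3), (54, 3)], [(45, 2)], [(38, 5), (31, 4), (25, 3), (16, 2), (13, 1), (11, 0), (49, 5), (41, 4), (28, 3), (3, 2), (54, 3), (9, 4), (43, 3), (30, 2), (54, 4), (52, 5), (44, 4), (6, 3), (54, 3), (9, 4), (45, 3), (8, 4), (50, 4), (35, 3), (24, 2), (53, 5), (45, 4), (9, 6), (53, 6), (45, 5), (7, 4), (54, 5), (8, 4), (9, 4), (53, 7), (45, 6), (7, 5), (54, 6), (8, 5), (54, 5), (9, 6), (39, 5), (26, 4), (21, 3), (17, 2), (12, 1), (42, 5), (29, 4), (8, 6), (43, 6), (30, 5), (54, 7),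 (54, 8), (8, 7), (52, 7), (6, 6), (9, 6), (54, 7), (8, 6), (48, 6), (22, 5), (18, 4), (15, 3), (2, 2), (49, 4), (28, 3), (23, 2), (9, 5), (42, 5), (29, 4), (24, 3), (52, 6), (44, 5), (54, 7), (8, 6), (54, 6), (51, 7), (43, 6), (30, 5), (5, 4), (54, 5), (9, 6), (44, 5), (6, 4), (54, 4), (54, 5), (8, 4), (51, 4), (54, 5), (9, 6), (41, 5), (23, 4), (19, 3), (3, 2), (43, 3), (8, 4), (24, 3), (4, 2), (43, 2), (8, 3), (51, 3), (5, 2), (53, 2), (54, 3)], [(40, 7), (33, 6), (22, 5), (18, 4), (15, 3), (2, 2), (49, 4), (28, 3), (23, 2), (9, 5), (42, 5), (29, 4), (24, 3), (52, 6), (44, 5), (54, 7), (8, 6), (54, 6), (51, 7), (43, 6), (30, 5), (5, 4), (54, 5), (9, 6), (44, 5), (6, 4), (54, 4), (54, 5), (8, 4), (51, 4), (54, 5), (53, 6), (45, 5), (54, 7), (8, 6), (9, 6), (34, 5), (23, 4), (19,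 3), (3, 2), (43, 3), (45, 4), (50, 6), (42, 5), (35, 4), (24, 3), (4, 2), (43, 2), (8, 3), (53, 3), (9, 4), (52, 5), (44, 4), (37, 3), (53, 6), (45, 5), (7, 4), (54, 5), (8, 4), (51, 4), (30, 3), (5, 2), (9, 3), (6, 2), (53, 2), (54, 3)]⟩,
    ⟨2, [1, 1], [5], [(27, 2), (18, 1), (2, 0), (50, 2), (29, 1), (24, 0), (52, 3), (44, 2), (54, 4), (8, 3), (9, 3), (30, 2), (5, 1), (52, 2), (6, 1), (9, 1), (44, 1), (8, 2), (29, 1), (4, 0), (44, 0), (8, 1), (6, 0)], [], [(38, 4), (31, 3), (13, 2), (10, 1), (0, 0), (39, 2), (21, 1), (17, 0), (43, 2), (8, 3), (42, 3), (24, 2), (4, 1), (43, 1), (8, 2), (54, 2), (51, 3), (43, 2), (5, 1), (9, 2), (41, 1), (43, 2), (44, 3), (45, 4), (8, 5), (53, 5), (7, 4), (54, 4), (54, 5), (8, 4), (9, 4), (26, 3), (21, 2), (14, 1), (1, 0), (41, 0), (8, 1), (44,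 2), (8, 3), (49, 3), (28, 2), (23, 1), (3, 0), (9, 2)], []⟩,
    ⟨3, [0, 0], [], [(32, 3), (26, 2), (17, 1), (1, 0), (42, 0), (8, 1), (53, 3), (45, 2), (54, 4), (8, 3), (9, 3), (35, 2), (29, 1), (4, 0), (44, 0), (8, 1), (52, 2), (37, 1), (6, 0), (53, 0), (9, 1), (7, 0)], [], [(23, 1), (3, 0), (5, 0)], []⟩,
    ⟨3, [1, 0], [0, 1], [(47, 1), (14, 0), (50, 3), (42, 2), (52, 4), (44, 3), (53, 5), (45, 4)], [(34, 3), (28, 2), (19, 1), (44, 3), (53, 5), (45, 4), (9, 6)], [(49, 1), (3, 0), (51, 0)], [(23, 1), (3, 0)]⟩,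
    ⟨4, [0, 0], [], [(26, 1), (1, 0), (44, 0), (8, 1), (52, 1), (6, 0), (9, 0)], [], [(47, 4), (39, 3), (32, 2), (17, 1), (1, 0), (42, 0), (8, 1), (54, 3), (8, 2), (9, 2), (35, 1), (4, 0), (45, 0), (53, 2), (45, 1), (7, 0), (54, 1), (8, 0), (9, 0)], []⟩,
    ⟨5, [2, 0], [0, 2, 4, 5, 6, 7, 8], [(13, 0), (47, 6), (39, 5), (32, 4), (26, 3), (21, 2), (14, 1), (43, 3), (8, 4), (53, 6), (45, 5), (54, 7), (8, 6), (9, 6)], [], [(13, 0), (47, 6), (39, 5), (32, 4), (26, 3), (21, 2), (14, 1), (43, 3), (8, 4), (53, 6), (45, 5), (54, 7), (8, 6), (9, 6)], [(15, 2), (42, 4), (43, 5), (44, 6), (45, 7), (48, 9), (40, 8), (33, 7), (27, 6), (22, 5), (18, 4), (15, 3), (2, 2), (49, 4), (28, 3), (23, 2), (9, 5), (42, 5), (29, 4), (24, 3), (52, 6), (44, 5), (54, 7), (8, 6), (54, 6), (51, 7), (43, 6),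 (30, 5), (5, 4), (54, 5), (9, 6), (44, 5), (6, 4), (54, 4), (54, 5), (8, 4), (51, 4), (54, 5), (52, 6), (44, 5), (54, 7), (8, 6), (53, 6), (54, 7), (9, 8), (50, 8), (42, 7), (35, 6), (29, 5), (24, 4), (4, 3), (43, 3), (8, 4), (52, 4), (54, 5), (53, 6), (45, 5), (9, 7), (8, 6), (53, 6), (7, 5), (9, 5), (30, 4), (5, 3), (52, 4), (6, 3), (9, 3), (51, 4), (43, 3), (52, 5), (44, 4), (53, 6), (45, 5), (9, 7)]⟩,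
    ⟨5, [3, 0], [0, 3, 6, 7], [(16, 0), (47, 4), (39, 3), (32, 2), (17, 1), (45, 3), (8, 4), (54, 4), (9, 5)], [], [(38, 4), (20, 3), (11, 2), (10, 1), (0, 0), (39, 2), (21, 1), (17, 0), (43, 2), (8, 3), (42, 3), (24, 2), (4, 1), (43, 1), (8, 2), (54, 2), (51, 3), (43, 2), (5, 1), (9, 2), (40, 1), (49, 3), (41, 2), (52, 4), (44, 3), (54, 5), (8, 4), (9, 4), (30, 3), (53, 5), (54, 6), (54, 7), (8, 6), (9, 6), (32, 5), (26, 4), (21, 3), (14, 2), (12, 1), (1, 0), (40, 0), (49, 2), (41, 1), (52, 3), (44, 2), (54, 4), (8, 3), (49, 3), (28, 2), (3, 1), (9, 2), (43, 2), (30, 1), (54, 3), (54, 4), (8, 3), (52, 3), (6, 2), (9, 2), (53, 3), (45, 2), (54, 4), (8, 3), (9, 3)], [(10, 1), (0, 0), (39, 2), (21, 1), (17, 0), (43, 2), (8, 3), (42, 3), (24, 2), (4, 1), (43, 1), (8, 2), (54, 2),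 (51, 3), (43, 2), (5, 1), (9, 2), (39, 1), (1, 0), (8, 0), (43, 2), (5, 1), (44, 1), (8, 2), (51, 2), (30, 1), (9, 3), (6, 2), (53, 2), (9, 3)]⟩,
    ⟨5, [1, 1], [4, 5, 8], [(2, 0)], [], [(46, 5), (25, 4), (20, 3), (11, 2), (10, 1), (0, 0), (39, 2), (21, 1), (17, 0), (43, 2), (8, 3), (42, 3), (24, 2), (4, 1), (43, 1), (8, 2), (54, 2), (51, 3), (43, 2), (5, 1), (9, 2), (40, 1), (49, 3), (41, 2), (52, 4), (44, 3), (54, 5), (8, 4), (9, 4), (30, 3), (53, 5), (54, 6), (52, 7), (44, 6), (37, 5), (6, 4), (53, 4), (54, 5), (9, 6), (45, 5), (7, 4), (8, 4), (9, 4), (21, 3), (14, 2), (12, 1), (1, 0), (40, 0), (49, 2), (41, 1), (52, 3), (44, 2), (54, 4), (8, 3), (49, 3), (28, 2), (3, 1), (9, 2), (43, 2), (30, 1), (54, 3), (54, 4), (8, 3), (48, 3), (27, 2), (22, 1), (2, 0), (51, 2), (30, 1),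 (5, 0), (9, 1), (44, 1), (6, 0), (54, 0), (54, 1), (8, 0), (9, 0)], [(48, 5), (33, 4), (27, 3), (22, 2), (18, 1), (2, 0), (50, 2), (29, 1), (24, 0), (52, 3), (44, 2), (54, 4), (8, 3), (9, 3), (30, 2), (5, 1), (52, 2), (6, 1), (9, 1), (43, 1), (8, 2), (45, 3), (50, 5), (42, 4), (35, 3), (29, 2), (24, 1), (4, 0), (43, 0), (8, 1), (52, 1), (54, 2), (53, 3), (45, 2), (9, 4), (8, 3), (53, 3), (7, 2), (9, 2)]⟩]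
  adj := [
    [],
    [],
    [],
    [(1, 1), (6, 1), (11, 1)],
    [(0, 1), (1, 1), (2, 1), (6, 1)],
    [(2, 1), (6, 1)],
    [],
    [(1, 1), (2, 1), (13, 1)],
    [(1, 1)],
    [(6, 1)]]
  base := []
  dense := [
    [0, 0, 0, 0, 0, 0, 0, 1, 1, 1, 0, 0, 0, 0, 0, 0, 1, 0, 0, 0, 1, 0, 0, 0, 0, 0, 0, 0, 0, 0, 0, 0, 0, 0, 0, 0, 1, 0, 1, 0, 0, 0, 0, 1, 0, 1, 0, 0, 0, 0, 0, 1, 0, 1],
    [0, 0, 0, 0, 0, 0, 0, 0, 0, 0, 0, 0, 0, 0, 0, 0, 0, 0, 0, 0, 0, 0, 0, 0, 0, 0, 0, 0, 0, 0, 0, 0, 0, 0, 0, 0, 0, 0, 0, 1],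
    [0, 0, 0, 0, 1, 1, 0, 0, 0, 1, 0, 0, 0, 0, 0, 0, 0, 1, 0, 0, 0, 1, 0, 0, 1, 0, 0, 0, 0, 0, 0, 0, 0, 0, 0, 0, 0, 0, 1, 0, 0, 0, 0, 0, 0, 0, 0, 1, 0, 0, 1, 0, 0, 0, 1],
    [0, 0, 0, 0, 1, 1, 0, 1, 1, 0, 0, 0, 0, 0, 0, 0, 1, 1, 0, 0, 1, 1, 0, 0, 1, 0, 0, 0, 0, 0, 0, 0, 0, 0, 0, 0, 1, 0, 0, 1, 0, 0, 0, 1, 0, 1, 1, 0, 0, 0, 0, 0, 0, 1],
    [0, 0, 0, 0, 0, 0, 0, 0, 1, 0, 0, 0, 0, 0, 0, 0, 0, 0, 0, 0, 0, 0, 1, 0, 0, 0, 0, 1, 0, 0, 0, 0, 0, 0, 0, 0, 0, 0, 0, 0, 0, 0, 0, 0, 1, 0, 0, 0, 1],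
    [0, 0, 0, 1, 0, 0, 1, 1, 1, 0, 0, 0, 0, 0, 0, 1, 0, 0, 0, 0, 1, 0, 0, 0, 0, 1, 0, 1, 1, 0, 0, 0, 0, 0, 0, 0, 0, 1, 0, 0, 1, 1, 0, 0, 1, 1, 1, 0, 1, 0, 0, 0, 1],
    [0, 0, 0, 1, 0, 1, 0, 1, 0, 1, 0, 0, 0, 1, 0, 0, 0, 0, 1, 0, 0, 0, 1, 0, 0, 1, 0, 0, 1, 0, 1, 0, 0, 0, 0, 0, 0, 1, 1, 0, 1, 0, 0, 1, 0, 1, 1, 0, 0, 1, 0, 1, 0, 1, 1],
    [0, 0, 0, 1, 0, 0, 1, 0, 1, 1, 0, 0, 0, 0, 0, 1, 0, 0, 0, 0, 0, 1, 0, 0, 0, 0, 1, 1, 1, 0, 0, 0, 0, 0, 0, 0, 0, 0, 0, 0, 1, 1, 0, 0, 1, 0, 0, 1, 0, 1, 0, 0, 0, 0, 1],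
    [0, 0, 0, 1, 0, 0, 1, 0, 0, 0, 0, 0, 0, 0, 1, 0, 0, 0, 0, 0, 0, 0, 0, 0, 0, 0, 1, 0, 1, 0, 0, 0, 0, 0, 0, 0, 0, 0, 0, 1, 1, 1, 0, 0, 0, 0, 0, 0, 0, 0, 0, 0, 1, 0, 1],
    [0, 0, 0, 0, 0, 1, 1, 1, 0, 0, 0, 0, 0, 1, 1, 0, 0, 0, 1, 0, 0, 0, 1, 0, 0, 1, 1, 0, 0, 0, 1, 0, 0, 0, 0, 0, 0, 1, 1, 1, 0, 1, 0, 0, 1, 1, 0, 1, 1, 1, 0, 1, 1, 1],
    [0, 0, 0, 0, 0, 1, 1, 1, 1, 1, 0, 0, 0, 0, 0, 0, 0, 0, 0, 0, 0, 0, 0, 1, 0, 0, 0, 0, 1, 0, 1, 0, 0, 0, 1, 0, 1, 1, 0, 0, 0, 1, 0, 1, 1, 1, 0, 0, 0, 1, 0, 1, 0, 0, 1],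
    [0, 0, 0, 0, 0, 1, 1, 0, 1, 1, 0, 0, 0, 0, 0, 0, 0, 0, 0, 1, 1, 0, 0, 1, 0, 1, 0, 0, 0, 0, 1, 1, 0, 0, 0, 0, 1, 0, 1, 0, 0, 1, 0, 0, 0, 0, 1, 0, 0, 0, 0, 1],
    [0, 0, 0, 0, 0, 0, 0, 0, 1, 0, 0, 0, 0, 0, 0, 0, 0, 0, 0, 0, 0, 0, 0, 0, 0, 0, 0, 0, 0, 0, 0, 0, 0, 0, 0, 0, 0, 0, 0, 0, 0, 1],
    [0, 0, 0, 0, 0, 0, 0, 0, 0, 0, 0, 0, 0, 0, 0, 0, 0, 0, 0, 1, 0, 1, 0, 1, 1, 0, 1, 0, 0, 1, 1, 0, 1, 0, 0, 1, 1, 0, 1, 1, 0, 0, 1, 0, 0, 0, 0, 1, 0, 1, 1],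
    [0, 0, 0, 0, 0, 0, 0, 0, 1, 1, 0, 0, 0, 0, 0, 0, 0, 0, 0, 0, 0, 0, 0, 1, 0, 0, 0, 0, 1, 0, 0, 0, 0, 0, 0, 0, 0, 0, 0, 0, 1, 0, 0, 0, 0, 0, 0, 0, 0, 1],
    [0, 0, 0, 0, 0, 0, 0, 0, 1, 0, 0, 0, 0, 0, 0, 0, 0, 0, 0, 0, 0, 0, 1, 1, 0, 0, 0, 1, 0, 0, 1, 0, 0, 1, 1, 0, 0, 1, 1, 0, 1, 1, 0, 0, 1, 0, 0, 0, 1, 1, 0, 0, 1, 0, 1],
    [0, 0, 0, 0, 0, 0, 0, 0, 0, 0, 0, 0, 0, 0, 0, 0, 0, 0, 0, 0, 0, 0, 0, 0, 0, 0, 0, 0, 1, 0, 0, 0, 0, 0, 0, 0, 0, 0, 0, 1, 1, 1, 0, 0, 0, 0, 0, 0, 0, 1, 0, 0, 1],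
    [0, 0, 0, 0, 0, 0, 0, 0, 0, 0, 0, 0, 0, 0, 0, 0, 0, 0, 0, 0, 0, 0, 0, 0, 0, 0, 0, 0, 0, 0, 0, 0, 0, 0, 0, 0, 0, 0, 0, 0, 0, 0, 1],
    [0, 0, 0, 0, 0, 0, 0, 1, 1, 1, 0, 0, 0, 0, 0, 0, 0, 0, 0, 0, 0, 0, 0, 0, 0, 0, 0, 0, 0, 0, 0, 0, 0, 0, 0, 1, 0, 0, 1, 0, 0, 0, 1, 0, 0, 1, 0, 0, 0, 0, 1, 0, 0, 0, 1],
    [0, 0, 0, 0, 0, 0, 0, 1, 0, 0, 0, 0, 0, 0, 0, 0, 0, 0, 0, 0, 0, 0, 0, 0, 1, 0, 0, 0, 0, 0, 0, 1, 0, 0, 0, 0, 0, 0, 1, 0, 0, 0, 1, 0, 0, 1, 1, 0, 0, 0, 0, 0, 0, 1],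
    [0, 0, 0, 0, 0, 0, 0, 0, 1, 0, 0, 0, 0, 0, 0, 0, 0, 0, 0, 0, 0, 0, 0, 0, 0, 0, 0, 0, 0, 0, 0, 0, 0, 0, 0, 0, 0, 0, 0, 1, 0, 0, 1],
    [0, 0, 0, 0, 0, 0, 0, 0, 0, 0, 0, 0, 0, 0, 0, 0, 0, 0, 0, 0, 0, 0, 0, 0, 1, 0, 0, 0, 0, 0, 0, 0, 1, 0, 0, 1, 1, 0, 1, 1, 0, 0, 1, 1, 0, 0, 0, 1, 0, 0, 1, 1, 0, 0, 1],
    [0, 0, 0, 0, 0, 1, 1, 0, 0, 1, 0, 0, 0, 0, 0, 0, 0, 0, 0, 0, 0, 0, 0, 0, 1, 0, 0, 0, 0, 1, 1, 0, 0, 0, 0, 0, 0, 0, 0, 0, 1, 0, 1, 1, 0, 0, 0, 0, 0, 0, 0, 1, 1, 0, 1],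
    [0, 0, 0, 0, 0, 1, 1, 0, 1, 0, 0, 0, 0, 0, 0, 0, 0, 0, 0, 0, 0, 0, 1, 0, 1, 0, 0, 1, 0, 1, 1, 0, 0, 0, 0, 0, 0, 0, 0, 0, 1, 0, 0, 1, 1, 0, 0, 0, 0, 0, 1, 0, 0, 0, 1],
    [0, 0, 0, 0, 0, 0, 0, 1, 1, 0, 0, 0, 0, 0, 0, 0, 0, 0, 0, 1, 1, 0, 0, 1, 0, 1, 0, 0, 1, 1, 1, 0, 0, 1, 1, 0, 1, 1, 1, 0, 1, 0, 1, 0, 0, 1, 0, 0, 1, 0, 1, 0, 1, 1],
    [0, 0, 0, 0, 0, 0, 0, 0, 1, 0, 0, 0, 0, 0, 0, 0, 0, 0, 0, 1, 0, 1, 0, 1, 0, 0, 1, 0, 1, 1, 1, 0, 0, 0, 0, 0, 0, 0, 0, 1, 1, 0, 1, 0, 0, 0, 0, 0, 0, 1, 0, 0, 1, 0, 1],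
    [0, 0, 0, 0, 0, 0, 0, 0, 1, 1, 0, 0, 0, 0, 0, 0, 0, 0, 0, 0, 0, 0, 0, 0, 1, 0, 0, 0, 0, 1, 0, 0, 0, 0, 1, 1, 1, 1, 1, 0, 0, 1, 1, 0, 1, 0, 0, 0, 0, 1, 1, 0, 1, 0, 1],
    [0, 0, 0, 0, 0, 0, 0, 1, 1, 0, 0, 0, 0, 0, 0, 0, 0, 0, 0, 0, 0, 0, 0, 0, 0, 0, 0, 0, 0, 0, 0, 0, 0, 0, 0, 0, 1, 0, 0, 0, 0, 0, 0, 1, 0, 1],
    [0, 0, 0, 0, 0, 0, 0, 1, 1, 0, 0, 0, 0, 0, 0, 0, 0, 0, 0, 0, 0, 0, 0, 0, 1, 0, 0, 0, 0, 0, 0, 1, 0, 0, 0, 0, 0, 0, 1, 0, 0, 0, 0, 0, 0, 1, 0, 0, 0, 0, 0, 1, 0, 0, 1],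
    [0, 0, 0, 0, 0, 0, 0, 0, 1, 0, 0, 0, 0, 0, 0, 0, 0, 0, 0, 0, 0, 0, 0, 0, 0, 0, 0, 0, 0, 0, 0, 0, 0, 0, 0, 0, 0, 0, 0, 0, 0, 0, 0, 1],
    [0, 0, 0, 0, 0, 0, 0, 0, 1, 1, 0, 0, 0, 0, 0, 0, 0, 0, 0, 0, 0, 0, 0, 0, 1, 0, 0, 0, 0, 0, 0, 0, 1, 0, 0, 1, 1, 0, 1, 1, 0, 0, 1, 0, 0, 0, 0, 0, 0, 0, 1, 0, 0, 0, 1],
    [0, 0, 0, 0, 0, 0, 0, 0, 1, 1, 0, 0, 0, 0, 0, 0, 0, 0, 0, 0, 0, 0, 0, 0, 0, 0, 0, 0, 0, 0, 1, 0, 0, 0, 0, 0, 0, 0, 0, 0, 1, 0, 0, 0, 0, 0, 0, 0, 0, 0, 0, 1],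
    [0, 0, 0, 0, 0, 0, 0, 0, 0, 0, 0, 0, 0, 0, 0, 0, 0, 0, 0, 0, 0, 0, 0, 1, 0, 0, 0, 0, 0, 0, 1, 0, 0, 1, 1, 0, 0, 1, 1, 0, 1, 0, 0, 1, 0, 0, 0, 0, 0, 1, 0, 1, 0, 0, 1],
    [0, 0, 0, 0, 0, 0, 0, 0, 0, 0, 0, 0, 0, 0, 0, 0, 0, 0, 0, 0, 0, 0, 0, 0, 0, 0, 0, 0, 0, 0, 1, 0, 0, 0, 1, 0, 0, 1, 0, 0, 0, 1, 0, 0, 1, 0, 0, 0, 0, 0, 0, 0, 1, 0, 1],
    [0, 0, 0, 0, 0, 0, 0, 0, 1, 1, 0, 0, 0, 0, 0, 0, 0, 0, 0, 0, 0, 0, 0, 0, 0, 0, 0, 0, 0, 0, 0, 0, 0, 0, 0, 0, 0, 0, 0, 0, 0, 0, 0, 1, 0, 0, 0, 0, 0, 0, 0, 1, 0, 0, 1],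
    [0, 0, 0, 0, 0, 0, 0, 0, 1, 1, 0, 0, 0, 0, 0, 0, 0, 0, 0, 0, 0, 0, 0, 0, 0, 0, 0, 0, 0, 0, 0, 0, 0, 0, 0, 0, 0, 0, 0, 0, 0, 0, 1, 1, 0, 0, 0, 0, 0, 0, 1, 0, 0, 0, 1],
    [0, 0, 0, 0, 0, 0, 0, 0, 1, 0, 0, 0, 0, 0, 0, 0, 0, 0, 0, 0, 0, 0, 0, 0, 0, 0, 0, 0, 0, 0, 0, 0, 0, 0, 0, 0, 0, 0, 0, 0, 0, 0, 0, 0, 0, 1],
    [0, 1, 0, 1, 1, 0, 1, 1, 1, 0, 0, 0, 0, 0, 0, 0, 0, 1, 0, 0, 0, 1, 0, 1, 1, 0, 1, 0, 0, 1, 1, 0, 1, 0, 0, 1, 1, 1, 0, 0, 0, 1, 0, 0, 1, 1, 0, 1, 0, 0, 1, 1, 1, 1],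
    [0, 1, 0, 1, 1, 0, 1, 0, 1, 0, 0, 0, 0, 1, 0, 1, 1, 1, 1, 0, 0, 0, 1, 1, 0, 0, 1, 1, 0, 0, 0, 0, 1, 0, 1, 1, 0, 1, 0, 1, 0, 1, 0, 0, 0, 1, 0, 0, 0, 1, 1, 1, 1, 0, 1, 0, 0, 0, 0, 0, 0, 0, 0, 0, 0, 0, 0, 1, 1, 0, 0, 0, 1, 1],
    [0, 1, 0, 1, 0, 0, 0, 0, 1, 1, 0, 0, 0, 1, 0, 1, 1, 0, 1, 1, 0, 0, 1, 1, 0, 0, 0, 1, 1, 0, 1, 1, 1, 1, 1, 1, 0, 1, 1, 0, 0, 0, 1, 1, 0, 0, 1, 0, 1, 0, 1, 1, 0, 1, 0, 0, 0, 0, 0, 0, 0, 0, 0, 0, 0, 0, 0, 1, 1, 0, 0, 0, 0, 1],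
    [0, 0, 0, 1, 0, 0, 1, 0, 0, 0, 1, 0, 1, 1, 1, 1, 1, 1, 0, 0, 0, 0, 0, 0, 1, 1, 0, 0, 0, 1, 0, 1, 0, 0, 0, 0, 1, 0, 1, 0, 1, 1, 0, 1, 1, 0, 0, 0, 0, 0, 0, 0, 1, 1, 1, 0, 0, 0, 0, 0, 0, 0, 0, 0, 0, 0, 0, 0, 0, 1, 1, 1],
    [0, 0, 0, 1, 0, 1, 0, 0, 1, 1, 1, 0, 1, 1, 1, 1, 1, 1, 0, 0, 0, 0, 0, 1, 0, 1, 0, 0, 1, 0, 0, 1, 0, 0, 0, 0, 1, 0, 0, 0, 1, 1, 1, 0, 0, 0, 1, 0, 0, 0, 0, 1, 0, 0, 1, 0, 0, 0, 0, 0, 0, 0, 0, 0, 0, 0, 0, 0, 0, 1, 1, 1],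
    [0, 0, 0, 0, 0, 0, 0, 0, 0, 0, 0, 0, 0, 0, 0, 0, 0, 0, 0, 0, 0, 0, 0, 1, 1, 0, 0, 0, 0, 0, 0, 0, 0, 0, 1, 1, 0, 0, 1, 0, 1, 1, 1, 0, 0, 0, 1, 0, 0, 0, 1, 0, 0, 0, 0, 0, 0, 0, 0, 0, 0, 0, 0, 0, 0, 0, 0, 0, 0, 0, 0, 1, 0, 1],
    [0, 0, 0, 0, 0, 1, 1, 1, 0, 0, 0, 0, 0, 1, 0, 1, 1, 0, 1, 0, 0, 0, 1, 0, 1, 0, 0, 1, 1, 0, 1, 1, 0, 1, 0, 1, 0, 0, 1, 0, 0, 0, 0, 1, 0, 0, 1, 0, 1, 0, 0, 0, 1, 0, 1, 0, 0, 0, 0, 0, 0, 0, 0, 0, 0, 0, 0, 0, 0, 0, 0, 1],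
    [0, 0, 0, 0, 0, 0, 0, 0, 1, 1, 0, 0, 0, 0, 0, 0, 0, 0, 0, 1, 0, 0, 0, 0, 0, 0, 1, 0, 1, 1, 0, 0, 0, 0, 1, 0, 0, 1, 0, 0, 0, 0, 0, 0, 0, 0, 0, 1, 0, 0, 0, 0, 1, 0, 1, 0, 0, 0, 0, 0, 0, 0, 0, 0, 0, 0, 0, 0, 0, 0, 0, 0, 1],
    [0, 0, 0, 0, 0, 0, 0, 0, 0, 1, 0, 0, 0, 0, 1, 0, 0, 1, 0, 0, 0, 0, 0, 0, 0, 0, 0, 0, 1, 1, 0, 0, 1, 0, 0, 0, 0, 1, 0, 1, 0, 0, 1, 0, 1, 1, 0, 1, 0, 0, 1, 0, 1, 1, 0, 0, 0, 0, 0, 0, 0, 0, 0, 0, 0, 0, 0, 0, 0, 0, 0, 0, 1, 1],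
    [0, 0, 1, 0, 1, 0, 0, 0, 0, 1, 0, 1, 1, 1, 0, 1, 1, 1, 1, 1, 1, 0, 0, 1, 0, 0, 0, 1, 1, 1, 1, 1, 0, 0, 0, 1, 0, 0, 0, 0, 0, 1, 0, 0, 0, 0, 0, 1, 1, 1, 0, 0, 0, 0, 1, 0, 0, 0, 0, 0, 0, 0, 0, 0, 0, 0, 0, 0, 0, 0, 0, 0, 0, 0, 0, 0, 0, 0, 0, 0, 1],
    [0, 0, 0, 0, 0, 0, 0, 0, 0, 1, 0, 0, 0, 0, 0, 1, 0, 0, 0, 1, 1, 1, 1, 1, 0, 1, 1, 1, 0, 0, 0, 0, 0, 0, 0, 1, 0, 1, 0, 0, 1, 0, 0, 0, 0, 0, 0, 0, 1, 0, 0, 1],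
    [0, 0, 0, 1, 0, 0, 1, 0, 1, 1, 0, 1, 1, 1, 0, 0, 1, 1, 0, 0, 1, 0, 0, 0, 1, 0, 0, 0, 1, 1, 1, 1, 0, 1, 1, 0, 0, 0, 0, 0, 1, 0, 0, 1, 1, 0, 1, 1, 0, 0, 1, 0, 0, 0, 0, 0, 0, 0, 0, 0, 0, 0, 0, 0, 0, 0, 0, 0, 0, 0, 0, 0, 0, 0, 0, 0, 0, 0, 0, 0, 1],
    [0, 0, 0, 1, 0, 0, 1, 1, 0, 0, 0, 1, 1, 1, 0, 0, 1, 1, 0, 0, 0, 1, 0, 0, 1, 1, 1, 0, 1, 1, 1, 0, 1, 1, 1, 0, 0, 1, 1, 0, 1, 0, 0, 0, 0, 0, 0, 0, 1, 1, 0, 0, 1, 0, 1, 0, 0, 0, 0, 0, 0, 0, 0, 0, 0, 0, 0, 0, 0, 0, 0, 0, 0, 0, 0, 0, 0, 0, 0, 0, 1],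
    [1, 1, 1, 1, 0, 0, 0, 1, 1, 1, 1, 0, 0, 1, 1, 0, 0, 1, 1, 0, 0, 0, 0, 1, 0, 0, 1, 1, 1, 0, 1, 1, 0, 0, 0, 0, 0, 0, 1, 1, 0, 0, 1, 0, 1, 1, 0, 0, 0, 1, 1, 1, 0, 1, 0, 0, 0, 0, 0, 0, 0, 0, 0, 0, 0, 0, 0, 0, 0, 0, 0, 0, 0, 0, 0, 0, 0, 0, 0, 0, 1],
    [0, 1, 0, 1, 1, 1, 1, 1, 1, 0, 0, 0, 0, 0, 0, 0, 0, 1, 0, 0, 0, 0, 0, 1, 0, 0, 1, 0, 0, 1, 0, 0, 1, 0, 0, 1, 0, 1, 0, 0, 0, 0, 1, 0, 1, 1, 0, 0, 0, 0, 0, 0, 1, 0, 1],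
    [0, 0, 0, 0, 0, 0, 0, 0, 0, 1, 0, 0, 0, 0, 1, 0, 0, 0, 0, 1, 0, 0, 0, 1, 0, 0, 0, 0, 1, 0, 0, 0, 0, 0, 1, 0, 0, 0, 0, 0, 0, 0, 1, 0, 0, 0, 0, 1, 0, 1, 1, 1, 1],
    [0, 0, 0, 0, 1, 0, 1, 1, 0, 1, 0, 0, 0, 0, 0, 0, 0, 1, 0, 0, 0, 0, 0, 0, 0, 0, 1, 0, 0, 0, 0, 0, 1, 0, 0, 1, 0, 0, 0, 1, 0, 0, 1, 0, 1, 0, 0, 1, 0, 0, 0, 0, 1, 1],
    [0, 0, 1, 0, 1, 0, 0, 1, 1, 1, 0, 0, 0, 0, 0, 0, 0, 0, 1, 0, 0, 0, 1, 1, 0, 0, 0, 1, 1, 0, 0, 0, 0, 1, 0, 1, 0, 0, 0, 0, 1, 0, 1, 0, 1, 1, 0, 0, 1, 1, 1, 1, 1, 0, 1, 0, 0, 0, 0, 0, 0, 0, 0, 0, 0, 0, 0, 0, 0, 0, 0, 0, 0, 0, 0, 0, 0, 0, 0, 0, 0, 0, 0, 0, 0, 0, 0, 0, 0, 0, 0, 0, 0, 0, 0, 0, 0, 0, 0, 0, 0, 0, 0, 0, 0, 0, 0, 0, 0, 1, 1, 1, 1, 1],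
    [0, 0, 0, 1, 0, 1, 0, 0, 0, 0, 0, 1, 1, 0, 1, 0, 1, 1, 0, 0, 1, 1, 0, 0, 0, 0, 1, 0, 1, 0, 1, 0, 0, 0, 0, 0, 0, 0, 1, 0, 0, 0, 0, 0, 1, 0, 0, 1, 0, 1, 0, 1, 1, 1, 0, 0, 0, 0, 0, 0, 0, 0, 0, 0, 0, 0, 0, 0, 0, 0, 0, 0, 0, 0, 0, 0, 0, 0, 0, 0, 0, 0, 0, 0, 0, 0, 0, 0, 0, 0, 0, 0, 0, 0, 0, 0, 0, 0, 0, 0, 0, 0, 0, 0, 0, 0, 0, 0, 0, 0, 0, 1, 1],
    [1, 1, 1, 1, 0, 1, 1, 0, 1, 1, 1, 1, 1, 0, 1, 0, 0, 1, 1, 0, 1, 0, 0, 0, 1, 1, 0, 0, 1, 0, 0, 0, 0, 1, 0, 1, 0, 1, 0, 1, 0, 0, 0, 0, 1, 1, 1, 0, 0, 1, 0, 0, 0, 0, 1, 0, 0, 0, 0, 0, 0, 0, 0, 0, 0, 0, 0, 0, 0, 0, 0, 0, 0, 0, 0, 0, 0, 0, 0, 0, 0, 0, 0, 0, 0, 0, 0, 0, 0, 0, 0, 0, 0, 0, 0, 0, 0, 0, 0, 0, 0, 0, 0, 0, 0, 0, 0, 0, 0, 1, 1, 0, 0, 1]]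
  tgt := [
    ([], []),
    ([], []),
    ([], []),
    ([], [(1, 1), (5, 1), (6, 1), (7, 1), (9, 1), (10, 1), (12, 1), (13, 1), (15, 1), (16, 1), (17, 1), (18, 1), (21, 1), (22, 1), (23, 1), (24, 1), (25, 1), (26, 1), (29, 1), (31, 1), (33, 1), (37, 1), (51, 1), (52, 1)]),
    ([], [(2, 1), (3, 1), (4, 1), (7, 1), (9, 1), (11, 1), (12, 1), (14, 1), (15, 1), (17, 1), (18, 1), (19, 1), (20, 1), (27, 1), (28, 1), (33, 1), (34, 1), (35, 1), (37, 1), (40, 1), (41, 1), (42, 1), (43, 1), (44, 1), (45, 1)]),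
    ([], [(0, 1), (1, 1), (3, 1), (11, 1), (16, 1), (19, 1), (24, 1), (27, 1), (28, 1), (36, 1), (37, 1), (38, 1), (39, 1), (44, 1), (51, 1)]),
    ([], []),
    ([], [(0, 1), (2, 1), (3, 1), (5, 1), (6, 1), (7, 1), (8, 1), (9, 1), (11, 1), (12, 1), (14, 1), (18, 1), (19, 1), (22, 1), (24, 1), (27, 1), (28, 1), (29, 1), (30, 1), (32, 1), (34, 1), (35, 1), (48, 1), (49, 1)]),
    ([], [(1, 1), (17, 1), (20, 1)]),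
    ([], [(1, 1), (10, 1), (11, 1), (12, 1), (13, 1), (15, 1), (16, 1), (17, 1), (18, 1), (19, 1), (20, 1), (21, 1), (22, 1), (23, 1), (24, 1), (25, 1), (26, 1)]),
    ([], [(2, 1), (7, 1), (8, 1), (9, 1), (11, 1), (13, 1), (15, 1), (17, 1), (18, 1), (19, 1), (20, 1), (26, 1), (28, 1), (32, 1), (33, 1), (34, 1), (37, 1), (38, 1), (39, 1), (40, 1), (41, 1), (42, 1), (43, 1), (45, 1), (48, 1), (49, 1), (51, 1), (52, 1), (53, 1), (54, 1), (55, 1), (56, 1)]),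
    ([], []),
    ([], [(1, 1), (2, 1), (8, 1), (11, 1), (13, 1), (15, 1), (17, 1), (19, 1), (23, 1), (24, 1), (25, 1), (27, 1), (28, 1), (30, 1), (32, 1), (37, 1), (38, 1), (39, 1), (44, 1), (46, 1), (47, 1), (50, 1), (51, 1), (54, 1), (55, 1), (56, 1)]),
    ([], []),
    ([], [(0, 1), (1, 1), (2, 1), (3, 1), (5, 1), (6, 1), (7, 1), (9, 1), (10, 1), (24, 1), (25, 1), (27, 1), (28, 1), (29, 1), (30, 1), (31, 1), (33, 1), (35, 1), (36, 1), (38, 1), (39, 1), (44, 1), (51, 1)]),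
    ([], [(1, 1), (4, 1), (6, 1), (9, 1), (10, 1), (12, 1), (13, 1), (15, 1), (16, 1), (17, 1), (20, 1), (21, 1), (23, 1), (25, 1), (27, 1), (34, 1), (35, 1), (38, 1), (39, 1), (40, 1), (41, 1), (44, 1), (47, 1), (48, 1), (49, 1), (51, 1), (52, 1)]),
    ([], [(0, 1), (1, 1), (3, 1), (7, 1), (10, 1), (11, 1), (15, 1), (16, 1), (18, 1), (21, 1), (22, 1), (23, 1), (24, 1), (26, 1), (28, 1), (29, 1), (30, 1), (31, 1), (34, 1), (35, 1), (36, 1), (42, 1), (43, 1), (44, 1), (45, 1), (46, 1), (47, 1), (49, 1), (52, 1)]),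
    ([], [(0, 1), (2, 1), (4, 1), (5, 1), (9, 1), (11, 1), (12, 1), (13, 1), (15, 1), (16, 1), (17, 1), (19, 1), (20, 1), (22, 1), (25, 1), (27, 1), (33, 1), (35, 1), (36, 1), (42, 1), (43, 1), (44, 1), (45, 1), (48, 1), (49, 1), (51, 1)]),
    ([], [(1, 1), (3, 1), (5, 1), (7, 1), (9, 1), (10, 1), (11, 1), (12, 1), (14, 1), (16, 1), (17, 1), (18, 1), (21, 1), (22, 1), (24, 1), (26, 1), (27, 1), (28, 1), (30, 1), (33, 1), (34, 1), (36, 1), (38, 1), (39, 1), (40, 1), (41, 1), (42, 1), (43, 1), (45, 1), (46, 1), (48, 1), (51, 1)]),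
    ([], [(0, 1), (1, 1), (2, 1), (3, 1), (5, 1), (6, 1), (7, 1), (9, 1), (10, 1), (12, 1), (13, 1), (17, 1), (18, 1), (19, 1), (20, 1), (21, 1), (25, 1), (27, 1), (28, 1), (31, 1), (32, 1), (34, 1), (38, 1), (39, 1), (44, 1), (48, 1), (49, 1), (51, 1), (52, 1)]),
    ([], [(0, 1), (1, 1), (4, 1), (6, 1), (7, 1), (8, 1), (9, 1), (10, 1), (11, 1), (20, 1), (23, 1), (24, 1), (27, 1), (29, 1), (33, 1), (34, 1), (37, 1), (38, 1), (39, 1), (40, 1), (41, 1), (42, 1), (43, 1), (45, 1), (46, 1), (47, 1), (49, 1), (51, 1), (52, 1)]),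
    ([], [(4, 1), (6, 1), (9, 1), (14, 1), (18, 1), (19, 1), (20, 1), (21, 1), (23, 1), (25, 1), (26, 1), (27, 1), (28, 1), (29, 1), (30, 1), (34, 1), (36, 1), (51, 1), (52, 1), (53, 1)]),
    ([], [(0, 1), (1, 1), (2, 1), (3, 1), (5, 1), (6, 1), (8, 1), (9, 1), (10, 1), (11, 1), (12, 1), (13, 1), (14, 1), (16, 1), (21, 1), (25, 1), (27, 1), (30, 1), (31, 1), (33, 1), (34, 1), (35, 1), (40, 1), (41, 1), (47, 1), (48, 1), (49, 1), (51, 1), (53, 1)]),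
    ([], [(4, 1), (10, 1), (12, 1), (13, 1), (15, 1), (17, 1), (18, 1), (20, 1), (21, 1), (22, 1), (25, 1), (26, 1), (32, 1)]),
    ([], [(5, 1), (7, 1), (8, 1), (10, 1), (12, 1), (17, 1), (21, 1), (22, 1), (25, 1), (26, 1), (28, 1), (31, 1), (33, 1), (34, 1), (35, 1), (37, 1), (48, 1), (49, 1), (52, 1), (53, 1)]),
    ([], [(0, 1), (1, 1), (4, 1), (7, 1), (11, 1), (13, 1), (14, 1), (15, 1), (16, 1), (18, 1), (20, 1), (21, 1), (22, 1), (26, 1), (28, 1), (30, 1), (31, 1), (32, 1), (33, 1), (40, 1), (41, 1), (42, 1), (43, 1), (44, 1), (45, 1), (46, 1), (47, 1), (49, 1), (52, 1), (53, 1)]),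
    ([], [(0, 1), (2, 1), (3, 1), (8, 1), (10, 1), (11, 1), (12, 1), (13, 1), (19, 1), (21, 1), (24, 1), (27, 1), (28, 1), (30, 1), (34, 1), (35, 1), (36, 1), (37, 1), (38, 1), (39, 1), (44, 1), (52, 1)]),
    ([], [(4, 1), (5, 1), (10, 1), (12, 1), (13, 1), (15, 1), (16, 1), (17, 1), (19, 1), (21, 1), (23, 1), (24, 1), (25, 1), (27, 1), (29, 1), (30, 1), (31, 1), (33, 1), (34, 1), (40, 1), (41, 1), (47, 1), (48, 1), (49, 1), (51, 1), (53, 1)]),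
    ([], [(0, 1), (1, 1), (3, 1), (10, 1), (11, 1), (13, 1), (14, 1), (16, 1), (19, 1), (20, 1), (21, 1), (24, 1), (25, 1), (28, 1), (29, 1), (33, 1), (36, 1), (37, 1), (38, 1), (39, 1), (44, 1), (51, 1)]),
    ([], [(0, 1), (3, 1), (4, 1), (5, 1), (7, 1), (8, 1), (12, 1), (13, 1), (17, 1), (18, 1), (20, 1), (22, 1), (23, 1), (27, 1), (29, 1), (32, 1), (33, 1), (35, 1), (36, 1), (38, 1), (39, 1), (44, 1), (48, 1), (49, 1), (51, 1), (52, 1), (53, 1)]),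
    ([], [(0, 1), (3, 1), (4, 1), (11, 1), (13, 1), (15, 1), (17, 1), (18, 1), (19, 1), (20, 1), (21, 1), (22, 1), (24, 1), (25, 1), (26, 1), (28, 1), (31, 1), (32, 1), (33, 1), (36, 1), (37, 1), (38, 1), (39, 1), (44, 1), (51, 1)]),
    ([], [(0, 1), (1, 1), (3, 1), (4, 1), (8, 1), (11, 1), (12, 1), (13, 1), (15, 1), (17, 1), (18, 1), (20, 1), (24, 1), (26, 1), (27, 1), (28, 1), (30, 1), (32, 1), (38, 1), (39, 1), (40, 1), (41, 1), (44, 1), (51, 1), (52, 1), (53, 1)]),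
    ([], [(1, 1), (5, 1), (7, 1), (8, 1), (10, 1), (12, 1), (17, 1), (18, 1), (21, 1), (22, 1), (25, 1), (26, 1), (27, 1), (28, 1), (29, 1), (30, 1), (31, 1), (33, 1), (34, 1), (35, 1), (37, 1), (48, 1), (49, 1), (52, 1), (53, 1)]),
    ([], [(10, 1), (12, 1), (13, 1), (14, 1), (18, 1), (19, 1), (20, 1), (21, 1), (25, 1), (26, 1), (28, 1), (31, 1), (32, 1), (33, 1), (40, 1), (41, 1)]),
    ([], [(0, 1), (3, 1), (15, 1), (19, 1), (21, 1), (22, 1), (23, 1), (24, 1), (25, 1), (26, 1), (28, 1), (32, 1), (37, 1), (38, 1), (39, 1), (44, 1), (48, 1), (49, 1), (51, 1)]),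
    ([], [(0, 1), (3, 1), (4, 1), (5, 1), (7, 1), (12, 1), (16, 1), (17, 1), (18, 1), (19, 1), (23, 1), (26, 1), (27, 1), (28, 1), (30, 1), (31, 1), (32, 1), (33, 1), (37, 1), (38, 1), (39, 1), (40, 1), (41, 1), (44, 1), (48, 1), (49, 1), (51, 1)]),
    ([], [(0, 1), (1, 1), (2, 1), (3, 1), (5, 1), (6, 1), (7, 1), (8, 1), (9, 1), (11, 1), (12, 1), (14, 1), (17, 1), (18, 1), (19, 1), (20, 1), (22, 1), (24, 1), (28, 1), (30, 1), (32, 1), (34, 1), (35, 1), (36, 1), (48, 1), (49, 1)]),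
    ([], [(0, 1), (1, 1), (2, 1), (3, 1), (6, 1), (8, 1), (9, 1), (11, 1), (12, 1), (13, 1), (18, 1), (20, 1), (22, 1), (29, 1), (31, 1), (36, 1), (48, 1), (49, 1)]),
    ([], [(2, 1), (4, 1), (6, 1), (8, 1), (9, 1), (11, 1), (14, 1), (16, 1), (17, 1), (18, 1), (22, 1), (23, 1), (24, 1), (26, 1), (31, 1), (33, 1), (34, 1), (36, 1), (37, 1), (38, 1), (39, 1), (40, 1), (41, 1), (44, 1), (51, 1)]),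
    ([], [(1, 1)]),
    ([], [(0, 1), (3, 1), (4, 1), (10, 1), (11, 1), (12, 1), (14, 1), (15, 1), (16, 1), (17, 1), (19, 1), (20, 1), (24, 1), (28, 1), (29, 1), (32, 1), (33, 1), (36, 1), (37, 1), (38, 1), (39, 1), (44, 1), (51, 1)]),
    ([], [(1, 1), (12, 1), (17, 1), (20, 1)]),
    ([], [(17, 1)]),
    ([], [(1, 1), (17, 1), (20, 1), (29, 1)]),
    ([], [(0, 1), (1, 1), (2, 1), (3, 1), (6, 1), (8, 1), (9, 1), (10, 1), (11, 1), (13, 1), (16, 1), (17, 1), (18, 1), (19, 1), (21, 1), (24, 1), (25, 1), (26, 1), (29, 1), (32, 1), (34, 1)]),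
    ([], [(1, 1), (17, 1), (20, 1), (36, 1)]),
    ([], [(0, 1), (1, 1), (2, 1), (3, 1), (17, 1), (21, 1), (30, 1), (35, 1)]),
    ([], [(1, 1), (10, 1), (12, 1), (13, 1), (14, 1), (16, 1), (17, 1), (18, 1), (20, 1), (22, 1), (25, 1), (26, 1), (30, 1)]),
    ([], [(1, 1), (10, 1), (13, 1), (14, 1), (15, 1), (16, 1), (17, 1), (18, 1), (20, 1), (21, 1), (23, 1), (25, 1), (26, 1), (32, 1), (34, 1), (35, 1)]),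
    ([], [(1, 1), (11, 1), (12, 1), (13, 1), (14, 1), (15, 1), (16, 1), (19, 1), (20, 1), (21, 1), (23, 1), (24, 1), (25, 1)]),
    ([], [(11, 1), (14, 1), (15, 1), (17, 1), (19, 1), (23, 1), (24, 1), (29, 1), (34, 1), (35, 1)]),
    ([], [(11, 1), (14, 1), (15, 1), (19, 1), (23, 1), (24, 1), (29, 1)]),
    ([], [(4, 1), (11, 1), (12, 1), (14, 1), (19, 1), (23, 1), (24, 1), (32, 1)]),
    ([], [(0, 1), (1, 1), (2, 1), (3, 1), (10, 1), (11, 1), (12, 1), (13, 1), (15, 1), (16, 1), (18, 1), (22, 1), (23, 1), (24, 1), (25, 1), (26, 1), (28, 1), (29, 1), (30, 1), (34, 1), (35, 1)]),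
    ([], [(1, 1), (10, 1), (12, 1), (13, 1), (14, 1), (16, 1), (17, 1), (18, 1), (20, 1), (21, 1), (22, 1), (25, 1), (26, 1), (34, 1)])]

/-- Orbits inside the subgroup. -/
def orbits : List (ℕ × List (ℕ × List ℕ)) := [
    (2, [(0, [0, 6, 7, 9]), (2, []), (6, [0, 1, 3, 7]), (8, [0, 2, 4, 6, 8, 9]), (13, [3, 6, 9]), (14, [0, 2, 7, 8, 9]), (30, [0, 2, 4, 6, 7, 8]), (36, [1, 2, 8]), (57, [2, 4, 6, 8, 9]), (68, [4, 8, 9]), (71, [0, 6, 8, 9]), (76, [0, 2, 3, 9]), (79, [3, 6, 7]), (88, [0, 1, 3, 9]), (97, [1]), (103, [0, 1, 2, 6, 8]), (105, [0, 1, 2, 7]), (110, [2, 3, 8, 9]), (124, [0, 3, 4, 6, 8]), (135, [2, 3, 7]), (148, [7]), (161, [4, 6, 8]), (172, [0, 1, 2, 9]), (176, [1, 3, 4]), (193, [2, 3, 6, 7]), (206, [3, 7, 8]), (213, [0, 1, 7, 8]), (223, [1, 2, 7, 8]), (238, [0, 2, 4, 6,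 8]), (239, [0, 3, 8, 9]), (259, [0, 3, 7]), (270, [2, 6, 7, 9]), (288, [2, 4, 7, 9]), (292, [2, 4, 6, 9]), (304, [0, 2, 3, 8, 9]), (311, [2, 6, 7, 8]), (314, [0, 2, 6, 9]), (328, [3, 4, 6, 8]), (340, [1, 3]), (348, [4, 9]), (350, [1, 6]), (354, [0, 2, 6]), (356, [0, 3, 6]), (358, [0, 3, 6, 9]), (370, [0, 2, 7]), (374, [2, 6]), (376, [0, 3, 4, 7, 8]), (377, [7, 8]), (378, [4, 7, 9]), (386, [0, 2, 3]), (396, [0, 8]), (406, [2, 3, 6, 9]), (407, [0, 2, 4, 7, 9]), (434, [1, 2, 7]), (439, [0, 2, 3, 6, 9]), (482, [1, 2, 9]), (511, [3, 4, 6, 9]), (516, [0, 2, 3, 4, 6, 9]), (529, [0, 3, 7, 8]), (539, [4, 8]), (563, [0, 2, 4, 8, 9]), (584, [0, 1, 2, 3, 6, 8]), (587, [0, 2, 3, 8]), (588, [0, 1, 3, 4]), (589, [0, 2]), (612, [2, 6, 8, 9]), (631, [0, 2, 8]), (634, [2]), (656, [0, 1, 4]), (662,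 [0, 2, 3, 6, 7, 9]), (711, [3, 9]), (712, [0, 2, 3, 4, 6]), (717, [2, 8, 9]), (725, [2, 4, 7, 8]), (735, [0, 1, 2, 6]), (736, [0, 1, 2, 3, 6]), (737, [2, 4, 7, 8, 9]), (740, [0, 1, 7]), (750, [0, 2, 4, 7, 8]), (751, [0, 2, 8, 9]), (755, [0, 2, 3, 6, 7]), (768, [0, 2, 4, 6, 7]), (769, [0, 2, 6, 7]), (771, [0, 1, 6]), (790, [0, 2, 6, 7, 8]), (796, [6, 7]), (800, [0, 2, 4, 6]), (803, [2, 4, 6, 8]), (805, [0, 4, 6, 7]), (806, [6, 9]), (807, [1, 7, 8]), (809, [3, 4, 7, 8]), (812, [0, 3, 8]), (822, [2, 7, 9]), (833, [0, 6]), (835, [2, 3, 4, 6, 9]), (840, [0, 4, 7, 8]), (849, [0, 8, 9]), (850, [4, 6]), (851, [0, 2, 6, 7, 8, 9]), (862, [1, 2, 6, 8]), (865, [2, 7, 8]), (866, [3, 4, 8, 9]), (870, [0, 1, 2, 6, 8, 9]), (884, [0, 1, 3, 4, 8]), (892, [0, 1, 2]), (898, [0, 4]), (911, [0, 4, 8]),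 (914, [0, 1, 3, 6]), (932, [0, 2, 4]), (939, [2, 3, 6, 7, 8]), (944, [1, 3, 6, 8]), (946, [3]), (950, [2, 3, 4, 6]), (958, [0, 1]), (979, [0, 1, 2, 7, 8]), (984, [3, 6, 8]), (986, [1, 2, 6, 9]), (996, [6]), (1005, [6, 7, 9]), (1008, [0]), (1023, [9]), (1042, [2, 3, 4, 7]), (1046, [0, 2, 3, 4, 6, 8, 9]), (1048, [0, 6, 9]), (1054, [2, 6, 7]), (1069, [0, 2, 3, 6, 8, 9]), (1079, [0, 6, 7, 8]), (1085, [0, 6, 8]), (1087, [2, 9]), (1094, [0, 1, 3, 8]), (1097, [6, 7, 8]), (1098, [0, 1, 2, 4]), (1105, [1, 2, 6]), (1128, [2, 7, 8, 9]), (1131, [2, 8]), (1144, [0, 2, 3, 4, 7]), (1145, [0, 2, 7, 9]), (1170, [2, 3, 6, 8]), (1173, [3, 7, 9]), (1178, [2, 4, 6, 7, 8]), (1181, [3, 4, 7]), (1182, [0, 2, 3, 4, 8]), (1193, [0, 3, 6, 8]), (1206, [1, 2, 6, 8, 9]), (1208, [0, 2, 6, 8, 9]), (1230, [2,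 6, 8]), (1233, [0, 1, 2, 6, 9]), (1235, [0, 4, 7, 9]), (1237, [3, 6, 7, 8]), (1255, [1, 3, 7]), (1260, [3, 4]), (1269, [2, 6, 9]), (1283, [0, 1, 3]), (1286, [8, 9]), (1295, [0, 3, 4, 8]), (1308, [0, 2, 4, 8]), (1322, [0, 2, 3, 7, 8]), (1323, [1, 2]), (1327, [3, 8]), (1328, [3, 4, 8]), (1329, [0, 1, 8]), (1331, [2, 4, 6, 7]), (1337, [2, 3, 4, 8]), (1343, [2, 3, 6]), (1349, [2, 7]), (1351, [2, 3, 6, 8, 9]), (1353, [0, 4, 6, 8]), (1356, [2, 4, 9]), (1359, [3, 4, 6]), (1372, [0, 2, 3, 6, 7, 8, 9]), (1412, [7, 8, 9]), (1413, [0, 3, 4, 9]), (1424, [0, 2, 4, 7]), (1426, [1, 3, 9]), (1432, [1, 8]), (1437, [1, 2, 3, 6]), (1463, [2, 4, 7]), (1480, [0, 2, 3, 7]), (1486, [0, 2, 4, 6, 9]), (1494, [1, 2, 3, 6, 8]), (1496, [0, 1, 2, 8]), (1498, [0, 3, 4, 8, 9]), (1514, [0, 3, 7, 9]), (1529, [2,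 3, 6, 7, 9]), (1530, [0, 9]), (1539, [0, 3, 6, 8, 9]), (1544, [2, 4, 8, 9]), (1547, [0, 4, 9]), (1552, [2, 3, 9]), (1567, [0, 2, 4, 9]), (1572, [0, 7, 8]), (1581, [0, 3, 9]), (1585, [2, 3, 4, 6, 8, 9]), (1586, [0, 2, 3, 6]), (1596, [0, 7, 9]), (1607, [2, 3]), (1613, [6, 8, 9]), (1632, [0, 3]), (1639, [0, 2, 3, 4]), (1640, [1, 7]), (1643, [3, 6, 8, 9]), (1655, [8]), (1671, [0, 2, 7, 8]), (1674, [2, 6, 7, 8, 9]), (1691, [0, 3, 6, 7]), (1695, [1, 3, 4, 8]), (1699, [0, 1, 2, 4, 8]), (1700, [2, 3, 7, 8]), (1703, [0, 7]), (1707, [1, 3, 8]), (1709, [4, 7, 8]), (1714, [0, 1, 3, 6, 8]), (1717, [6, 8]), (1720, [1, 3, 6]), (1722, [0, 7, 8, 9]), (1723, [0, 4, 6]), (1728, [0, 1, 3, 8, 9]), (1731, [1, 2, 4]), (1738, [2, 3, 8]), (1753, [1, 3, 8, 9]), (1761, [0, 2, 3, 4, 6, 8]), (1771, [0, 2,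 3, 6, 8]), (1782, [2, 4]), (1792, [0, 3, 7, 8, 9]), (1803, [2, 3, 4]), (1811, [0, 2, 4, 7, 8, 9]), (1813, [0, 2, 6, 7, 9]), (1814, [0, 3, 4]), (1823, [4]), (1827, [0, 4, 8, 9]), (1833, [2, 3, 4, 6, 8]), (1837, [4, 6, 7]), (1846, [0, 3, 4, 6]), (1860, [2, 4, 6]), (1869, [0, 3, 4, 6, 9]), (1878, [0, 2, 3, 6, 7, 8]), (1887, [2, 3, 6, 7, 8, 9]), (1889, [3, 4, 9]), (1894, [1, 2, 4, 8]), (1923, [0, 1, 9]), (1924, [2, 4, 8]), (1940, [3, 7, 8, 9]), (1949, [0, 3, 6, 7, 8]), (1965, [7, 9]), (1966, [3, 6]), (1971, [4, 7]), (1973, [0, 6, 7]), (1986, [1, 4]), (1997, [0, 3, 4, 7]), (2001, [0, 2, 9]), (2002, [3, 8, 9]), (2014, [0, 2, 6, 8]), (2027, [0, 4, 7]), (2041, [1, 9]), (2056, [3, 7])]),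
    (1100, [(397, [1, 4, 5, 6, 7, 9]), (964, [5, 9]), (1073, [1, 4, 6, 7, 9]), (1100, [])])]

theorem ident_ok : identOK CfsgLib.Spor.Held.ActH.act cert sw gw CfsgLib.Spor.HeldOut.levZ = true := by decide +kernel

theorem sub_ok : subChainOK CfsgLib.Spor.Held.ActH.act sw [] orbits = true := by decide +kernel

theorem shape_ok : cert.shapeOK = true := by decide +kernel

theorem lin_ok : cert.linOK = true := by decide +kernel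

theorem prod_ok : cert.p ^ cert.m ≤ (orbits.map fun e => e.2.length).prod := by decide +kernel

end CfsgLib.Spor.HeldMult.P2
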